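import Mathlib
import Cfsg.Agent.SplitTwo.ZSys

/-!
# The rank one subgroups of a Moufang polygon

`S : ZSys m X`, `L = ⟨X i, X (i + m)⟩` : the conjugates of `X i` under `L` are `X i` and the `x X (i + m) x⁻¹`,
`x ∈ X i`; hence `|X i| + 1` divides `|L|`.
-/

set_option autoImplicit false

namespace Cfsg.Agent.H42.Tw

open Subgroup Cfsg.Agent.SplitTwo.ZS

universe u

variable {G : Type u} [Group G] {X : ℤ → Subgroup G} {m : ℤ}

/-- the conjugate of a subgroup -/
def cj (g : G) (A : Subgroup G) : Subgroup G := A.map (MulAut.conj g).toMonoidHom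

theorem cj_mul (g h : G) (A : Subgroup G) : cj (g * h) A = cj g (cj h A) := by
  rw [cj, cj, cj, map_map]
  congr 1
  ext x
  simp [mul_assoc]

theorem cj_one (A : Subgroup G) : cj 1 A = A := by
  rw [cj]
  have : (MulAut.conj (1 : G)).toMonoidHom = MonoidHom.id G := by
    ext x
    simp
  rw [this, map_id]

theorem cj_self {A : Subgroup G} {x : G} (hx : x ∈ A) : cj x A = A := by
  ext y
  rw [cj, mem_map]
  constructor
  · rintro ⟨z, hz, rfl⟩
    exact mul_mem (mul_mem hx hz) (inv_mem hx)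
  · intro hy
    refine ⟨x⁻¹ * y * x, mul_mem (mul_mem (inv_mem hx) hy) hx, ?_⟩
    change x * (x⁻¹ * y * x) * x⁻¹ = y
    group

theorem cj_of_refl {c : ℤ} {n : G} (h : Refl X c n) {j k : ℤ} (hk : k = c - j) : cj n (X j) = X k := by
  ext y
  rw [cj, mem_map]
  constructor
  · rintro ⟨z, hz, rfl⟩
    exact h.mem' hz hk
  · intro hy
    refine ⟨n⁻¹ * y * n, h.mem_inv hy (by omega), ?_⟩
    change n * (n⁻¹ * y * n) * n⁻¹ = y
    group

section

variable (S : ZSys m X)
include S

theorem cj_X {i : ℤ} {x : G} (hx : x ∈ X i) (hx1 : x ≠ 1) : ∃ v ∈ X (i + m), cj x (X (i + m)) = cj v (X i) := by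
  obtain ⟨v, hv, v', hv', hr⟩ := S.mu i x hx hx1
  have hper : X (i - m) = X (i + m) := by
    have := S.per (i - m)
    rw [show i - m + 2 * m = i + m by ring] at this
    exact this.symm
  rw [hper] at hv hv'
  refine ⟨v⁻¹, inv_mem hv, ?_⟩
  have e : x = v⁻¹ * (v * x * v') * v'⁻¹ := by group
  rw [e, cj_mul, cj_mul, cj_self (inv_mem hv')]
  congr 1
  rw [← hper]
  exact cj_of_refl hr (by ring)

theorem cj_X' {i : ℤ} {y : G} (hy : y ∈ X (i + m)) (hy1 : y ≠ 1) : ∃ v ∈ X i, cj y (X i) = cj v (X (i + m)) := by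
  obtain ⟨v, hv, v', hv', hr⟩ := S.mu (i + m) y hy hy1
  rw [show i + m - m = i by ring] at hv hv'
  refine ⟨v⁻¹, inv_mem hv, ?_⟩
  have e : y = v⁻¹ * (v * y * v') * v'⁻¹ := by group
  rw [e, cj_mul, cj_mul, cj_self (inv_mem hv')]
  congr 1
  exact cj_of_refl hr (by ring)

/-- the conjugates of `X i` under `L` -/
theorem cj_mem {i : ℤ} {g : G} (hg : g ∈ X i ⊔ X (i + m)) :
    cj g (X i) = X i ∨ ∃ x ∈ X i, cj g (X i) = cj x (X (i + m)) := by
  let K : Subgroup G :=
    { carrier := {g | ∀ A : Subgroup G, (A = X i ∨ ∃ x ∈ X i, A = cj x (X (i + m))) ↔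
        (cj g A = X i ∨ ∃ x ∈ X i, cj g A = cj x (X (i + m)))}
      one_mem' := fun A => by rw [cj_one]
      mul_mem' := fun {a b} ha hb A => by
        rw [cj_mul, ← ha, ← hb]
      inv_mem' := fun {a} ha A => by
        have h := ha (cj a⁻¹ A)
        rw [← cj_mul, mul_inv_cancel, cj_one] at h
        exact h.symm }
  have h1 : ∀ z ∈ X i, ∀ A : Subgroup G, (A = X i ∨ ∃ x ∈ X i, A = cj x (X (i + m))) →
      (cj z A = X i ∨ ∃ x ∈ X i, cj z A = cj x (X (i + m))) := by
    rintro z hz A (rfl | ⟨x, hx, rfl⟩)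
    · exact Or.inl (cj_self hz)
    · exact Or.inr ⟨z * x, mul_mem hz hx, (cj_mul _ _ _).symm⟩
  have h2 : ∀ z ∈ X (i + m), ∀ A : Subgroup G, (A = X i ∨ ∃ x ∈ X i, A = cj x (X (i + m))) →
      (cj z A = X i ∨ ∃ x ∈ X i, cj z A = cj x (X (i + m))) := by
    have h3 : ∀ z ∈ X (i + m), cj z (X i) = X i ∨ ∃ x ∈ X i, cj z (X i) = cj x (X (i + m)) := by
      intro z hz
      by_cases hz1 : z = 1
      · rw [hz1, cj_one]
        exact Or.inl rfl
      · exact Or.inr (cj_X' S hz hz1)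
    rintro z hz A (rfl | ⟨x, hx, rfl⟩)
    · exact h3 z hz
    · by_cases hx1 : x = 1
      · refine Or.inr ⟨1, one_mem _, ?_⟩
        rw [hx1, cj_one, cj_self hz]
      · obtain ⟨v, hv, e⟩ := cj_X S hx hx1
        rw [e, ← cj_mul]
        exact h3 _ (mul_mem hz hv)
  have hK : X i ⊔ X (i + m) ≤ K := by
    refine sup_le (fun z hz A => ⟨h1 z hz A, fun h => ?_⟩) (fun z hz A => ⟨h2 z hz A, fun h => ?_⟩)
    · have := h1 z⁻¹ (inv_mem hz) _ h
      rwa [← cj_mul, inv_mul_cancel, cj_one] at this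
    · have := h2 z⁻¹ (inv_mem hz) _ h
      rwa [← cj_mul, inv_mul_cancel, cj_one] at this
  exact (hK hg (X i)).1 (Or.inl rfl)

/-- **`|X i| + 1` divides the order of the rank one group.** -/
theorem card_succ_dvd [Finite G] {i : ℤ} (hne : X i ≠ X (i + m)) :
    Nat.card (X i) + 1 ∣ Nat.card ↥(X i ⊔ X (i + m)) := by
  classical
  set L : Subgroup G := X i ⊔ X (i + m) with hL
  let _ : MulAction L (Subgroup G) :=
    { smul := fun g A => cj (g : G) A
      one_smul := fun A => cj_one A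
      mul_smul := fun g h A => cj_mul _ _ A }
  have hsm : ∀ (g : L) (A : Subgroup G), g • A = cj (g : G) A := fun _ _ => rfl
  have horb : Nat.card (MulAction.orbit L (X i)) = Nat.card (X i) + 1 := by
    rw [← Finite.card_option]
    obtain ⟨y, hy, hy1⟩ := S.exists_ne (i + m)
    obtain ⟨v, hv, hyv⟩ := cj_X' S hy hy1
    have hmem : ∀ x ∈ X i, cj x (X (i + m)) ∈ MulAction.orbit L (X i) := by
      intro x hx
      have h1 : x * v⁻¹ * y ∈ L := mul_mem (mem_sup_left (mul_mem hx (inv_mem hv))) (mem_sup_right hy)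
      refine ⟨⟨x * v⁻¹ * y, h1⟩, ?_⟩
      change cj (x * v⁻¹ * y) (X i) = _
      rw [cj_mul, hyv, ← cj_mul]
      congr 1
      group
    have hinj : ∀ x ∈ X i, cj x (X (i + m)) = X (i + m) → x = 1 := by
      intro x hx h
      by_contra hx1
      obtain ⟨w, hw, e⟩ := cj_X S hx hx1
      rw [h] at e
      apply hne
      have h1 : cj w⁻¹ (X (i + m)) = cj w⁻¹ (cj w (X i)) := by rw [← e]
      rw [cj_self (inv_mem hw), ← cj_mul, inv_mul_cancel, cj_one] at h1
      exact h1.symm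
    let f : Option (X i) → MulAction.orbit L (X i) := fun o =>
      match o with
      | none => ⟨X i, MulAction.mem_orbit_self _⟩
      | some x => ⟨cj (x : G) (X (i + m)), hmem x x.2⟩
    symm
    refine Nat.card_eq_of_bijective f ⟨?_, ?_⟩
    · have hnone : ∀ x : X i, cj (x : G) (X (i + m)) ≠ X i := by
        intro x h
        apply hne
        have h1 : cj (x : G)⁻¹ (cj (x : G) (X (i + m))) = cj (x : G)⁻¹ (X i) := by rw [h]
        rw [← cj_mul, inv_mul_cancel, cj_one, cj_self (inv_mem x.2)] at h1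
        exact h1.symm
      rintro (_ | x) (_ | y) h
      · rfl
      · exact absurd (congrArg Subtype.val h).symm (hnone y)
      · exact absurd (congrArg Subtype.val h) (hnone x)
      · have h1 : cj (x : G) (X (i + m)) = cj (y : G) (X (i + m)) := congrArg Subtype.val h
        have h2 : cj ((y : G)⁻¹ * x) (X (i + m)) = X (i + m) := by
          rw [cj_mul, h1, ← cj_mul, inv_mul_cancel, cj_one]
        have h3 := hinj _ (mul_mem (inv_mem y.2) x.2) h2
        have h4 : (y : G) = x := inv_mul_eq_one.1 h3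
        rw [Subtype.ext h4]
    · rintro ⟨A, ⟨g, rfl⟩⟩
      rcases cj_mem S g.2 with h | ⟨x, hx, h⟩
      · exact ⟨none, Subtype.ext h.symm⟩
      · exact ⟨some ⟨x, hx⟩, Subtype.ext h.symm⟩
  rw [← horb, Nat.card_congr (MulAction.orbitEquivQuotientStabilizer L (X i))]
  exact (MulAction.stabilizer L (X i)).index_dvd_card

end

end Cfsg.Agent.H42.Tw
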