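import Mathlib
import Cfsg.Agent.H42.Tw.Pair
import Cfsg.Agent.H42.Tw.Orbit
import Cfsg.Agent.PreUniq.LowExc.TwF4Torus
import Cfsg.Agent.S0126
import Cfsg.Agent.S1068

/-!
# `AbIrr p` for `²F₄(q)`, `p ≥ 5` dividing `q + 1` or `q² + 1`

`L = ⟨X_j, X_{j+8}⟩`, `M = ⟨X_{j+4}, X_{j+12}⟩`, `j = 1` for `p ∣ q + 1`, `j = 0` for `p ∣ q² + 1`, exchanged by the
square of the rotation.
-/

set_option autoImplicit false

namespace Cfsg.Agent.H42.Tw

open Subgroup Cfsg.Agent.H795 Cfsg Cfsg.Agent.SplitTwo.ZS Cfsg.Agent.KFacts.TwF4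

universe u

/-! ### arithmetic -/

theorem fact_sq_mul {p n a b : ℕ}  (hn : n = a ^ 2 * b) (hn0 : n ≠ 0) (hb : ¬ p ∣ b) :
    n.factorization p = 2 * a.factorization p := by
  subst hn
  have ha : a ≠ 0 := by
    rintro rfl
    apply hn0
    simp
  have hb0 : b ≠ 0 := by
    rintro rfl
    exact hb (dvd_zero p)
  rw [Nat.factorization_mul (pow_ne_zero 2 ha) hb0, Nat.factorization_pow, Finsupp.add_apply, Finsupp.smul_apply,
    Nat.factorization_eq_zero_of_not_dvd hb, add_zero, smul_eq_mul]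

theorem not_dvd_of_cast {p n : ℕ} (h : ((n : ℕ) : ZMod p) ≠ 0) : ¬ p ∣ n := fun h1 =>
  h ((ZMod.natCast_eq_zero_iff n p).2 h1)

theorem cast_ne_zero_of_dvd {p a k : ℕ} [hp : Fact p.Prime] (h5 : 5 ≤ p) (ha : a = 2 ^ k * 3 ^ k) :
    ((a : ℕ) : ZMod p) ≠ 0 := by
  intro h
  have h1 := (ZMod.natCast_eq_zero_iff a p).1 h
  rw [ha] at h1
  rcases hp.out.dvd_mul.1 h1 with h2 | h2
  · have := (Nat.prime_dvd_prime_iff_eq hp.out Nat.prime_two).1 (hp.out.dvd_of_dvd_pow h2)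
    omega
  · have := (Nat.prime_dvd_prime_iff_eq hp.out Nat.prime_three).1 (hp.out.dvd_of_dvd_pow h2)
    omega

theorem two_ne {p : ℕ} [hp : Fact p.Prime] (h5 : 5 ≤ p) : (2 : ZMod p) ≠ 0 := by
  intro h
  have h1 : ((2 : ℕ) : ZMod p) = 0 := by exact_mod_cast h
  have h2 := Nat.le_of_dvd (by norm_num) ((ZMod.natCast_eq_zero_iff 2 p).1 h1)
  omega

theorem three_ne {p : ℕ} [hp : Fact p.Prime] (h5 : 5 ≤ p) : (3 : ZMod p) ≠ 0 := by
  intro h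
  have h1 : ((3 : ℕ) : ZMod p) = 0 := by exact_mod_cast h
  have h2 := Nat.le_of_dvd (by norm_num) ((ZMod.natCast_eq_zero_iff 3 p).1 h1)
  omega

/-- the order of `²F₄(q)` -/
def ord (q : ℕ) : ℕ := q ^ 12 * (q - 1) * (q ^ 3 + 1) * (q ^ 4 - 1) * (q ^ 6 + 1)

theorem pow_four (k : ℕ) : (k + 1) ^ 4 - 1 = ((k + 1) + 1) * k * ((k + 1) ^ 2 + 1) := by
  have : (k + 1) ^ 4 = ((k + 1) + 1) * k * ((k + 1) ^ 2 + 1) + 1 := by ring
  rw [this, Nat.add_sub_cancel]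

theorem fact_plus {p q : ℕ} [hp : Fact p.Prime] (h5 : 5 ≤ p) (hq : 2 ≤ q) (h : p ∣ q + 1) :
    (ord q).factorization p = 2 * (q + 1).factorization p := by
  obtain ⟨k, rfl⟩ : ∃ k, q = k + 1 := ⟨q - 1, by omega⟩
  have hk : k ≠ 0 := by omega
  have e : ord (k + 1) = ((k + 1) + 1) ^ 2 * ((k + 1) ^ 12 * k * k * (k * k + k + 1) * ((k + 1) ^ 2 + 1) *
      ((k + 1) ^ 6 + 1)) := by
    rw [ord, pow_four, Nat.add_sub_cancel]
    ring
  refine fact_sq_mul e ?_ (not_dvd_of_cast ?_)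
  · rw [e]
    positivity
  · have h1 : ((k : ZMod p)) = -2 := by
      have h2 := (ZMod.natCast_eq_zero_iff (k + 1 + 1) p).2 h
      push_cast at h2
      linear_combination h2
    push_cast
    rw [h1]
    have : ((-2 + 1) ^ 12 * -2 * -2 * (-2 * -2 + -2 + 1) * ((-2 + 1) ^ 2 + 1) * ((-2 + 1) ^ 6 + 1) : ZMod p) =
        2 * 2 * 3 * 2 * 2 := by ring
    rw [this]
    have h2 := two_ne (p := p) h5
    have h3 := three_ne (p := p) h5
    exact mul_ne_zero (mul_ne_zero (mul_ne_zero (mul_ne_zero h2 h2) h3) h2) h2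

theorem fact_sq {p q : ℕ} [hp : Fact p.Prime] (h5 : 5 ≤ p) (hq : 2 ≤ q) (h : p ∣ q ^ 2 + 1) :
    (ord q).factorization p = 2 * (q ^ 2 + 1).factorization p := by
  obtain ⟨k, rfl⟩ : ∃ k, q = k + 1 := ⟨q - 1, by omega⟩
  have hk : k ≠ 0 := by omega
  have e6 : (k + 1) ^ 6 + 1 = ((k + 1) ^ 2 + 1) * (k ^ 4 + 4 * k ^ 3 + 5 * k ^ 2 + 2 * k + 1) := by ring
  have e : ord (k + 1) = ((k + 1) ^ 2 + 1) ^ 2 * ((k + 1) ^ 12 * k * ((k + 1) ^ 3 + 1) * ((k + 1) + 1) * k *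
      (k ^ 4 + 4 * k ^ 3 + 5 * k ^ 2 + 2 * k + 1)) := by
    rw [ord, pow_four, Nat.add_sub_cancel, e6]
    ring
  refine fact_sq_mul e ?_ (not_dvd_of_cast ?_)
  · rw [e]
    positivity
  · have h1 : ((k : ZMod p) + 1) ^ 2 = -1 := by
      have h2 := (ZMod.natCast_eq_zero_iff ((k + 1) ^ 2 + 1) p).2 h
      push_cast at h2
      linear_combination h2
    push_cast
    set x : ZMod p := (k : ZMod p) + 1 with hx
    have hkx : (k : ZMod p) = x - 1 := by rw [hx]; ring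
    have hx0 : x ≠ 0 := by
      intro h0
      rw [h0] at h1
      have : (1 : ZMod p) = 0 := by linear_combination h1
      exact one_ne_zero this
    rw [hkx]
    have h2 := two_ne (p := p) h5
    have h3 := three_ne (p := p) h5
    have : (x ^ 12 * (x - 1) * (x ^ 3 + 1) * (x + 1) * (x - 1) *
        ((x - 1) ^ 4 + 4 * (x - 1) ^ 3 + 5 * (x - 1) ^ 2 + 2 * (x - 1) + 1) : ZMod p) = 2 * 2 * 3 * (-x) := by
      have x2 : x ^ 2 = -1 := h1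
      have x3 : x ^ 3 = -x := by rw [pow_succ, x2]; ring
      have x4 : x ^ 4 = 1 := by rw [show x ^ 4 = (x ^ 2) ^ 2 by ring, x2]; ring
      have x12 : x ^ 12 = 1 := by rw [show x ^ 12 = (x ^ 4) ^ 3 by ring, x4]; ring
      have ea : (x - 1) ^ 4 + 4 * (x - 1) ^ 3 + 5 * (x - 1) ^ 2 + 2 * (x - 1) + 1 = x ^ 4 - x ^ 2 + 1 := by ring
      rw [ea, x12, x3, x4, x2]
      have eb : 1 * (x - 1) * (-x + 1) * (x + 1) * (x - 1) * (1 - -1 + 1) = -3 * ((x ^ 2 - 1) * (x ^ 2 - 2 * x + 1)) := by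
        ring
      rw [eb, x2]
      ring
    rw [this]
    exact mul_ne_zero (mul_ne_zero (mul_ne_zero h2 h2) h3) (neg_ne_zero.2 hx0)

theorem not_dvd_sub_one_of_plus {p q : ℕ} [hp : Fact p.Prime] (h5 : 5 ≤ p) (hq : 2 ≤ q) (h : p ∣ q + 1) :
    ¬ p ∣ q - 1 := by
  intro h1
  have h2 := Nat.dvd_sub h h1
  rw [show q + 1 - (q - 1) = 2 by omega] at h2
  have := Nat.le_of_dvd (by norm_num) h2
  omega

theorem not_dvd_sub_one_of_sq {p q : ℕ} [hp : Fact p.Prime] (h5 : 5 ≤ p) (hq : 2 ≤ q) (h : p ∣ q ^ 2 + 1) :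
    ¬ p ∣ q - 1 := by
  intro h1
  obtain ⟨k, rfl⟩ : ∃ k, q = k + 1 := ⟨q - 1, by omega⟩
  rw [Nat.add_sub_cancel] at h1
  have e : (k + 1) ^ 2 + 1 = k * (k + 2) + 2 := by ring
  rw [e] at h
  have h2 := (Nat.dvd_add_right (h1.mul_right (k + 2))).1 h
  have := Nat.le_of_dvd (by norm_num) h2
  omega

/-! ### the groups `L` and `M` -/

section

variable {F : Type*} [Field F] {σ : F →+* F} {G : Type u} [Group G] (S : Full σ G)

/-- root groups at distance four commute -/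
theorem comm4 {k : ℤ} {x y : G} (hx : x ∈ S.XZ k) (hy : y ∈ S.XZ (k + 4)) : x * y = y * x := by
  rcases Int.even_or_odd' k with ⟨a, rfl | rfl⟩
  · obtain ⟨p, u, rfl⟩ := (S.mem_XZ_even a x).1 hx
    rw [show 2 * a + 4 = 2 * (a + 2) by ring] at hy
    obtain ⟨p', u', rfl⟩ := (S.mem_XZ_even (a + 2) y).1 hy
    push_cast
    exact S.e_e2 _ _ _ _ _
  · obtain ⟨t, rfl⟩ := (S.mem_XZ_odd a x).1 hx
    rw [show 2 * a + 1 + 4 = 2 * (a + 2) + 1 by ring] at hy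
    obtain ⟨t', rfl⟩ := (S.mem_XZ_odd (a + 2) y).1 hy
    push_cast
    exact S.o_o2 _ _ _

theorem XZ_per (k : ℤ) : S.XZ (k + 16) = S.XZ k := S.zsys8.per k

theorem comm_LM {j : ℤ} {x y : G} (hx : x ∈ S.XZ j ⊔ S.XZ (j + 8)) (hy : y ∈ S.XZ (j + 4) ⊔ S.XZ (j + 4 + 8)) :
    x * y = y * x := by
  have h1 : S.XZ j ⊔ S.XZ (j + 8) ≤ centralizer ((S.XZ (j + 4) ⊔ S.XZ (j + 4 + 8) : Subgroup G) : Set G) := by
    rw [← le_centralizer_iff]
    refine sup_le ?_ ?_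
    · rw [le_centralizer_iff]
      refine sup_le ?_ ?_
      · intro z hz
        rw [mem_centralizer_iff]
        intro w hw
        exact (comm4 S hz hw).symm
      · intro z hz
        rw [mem_centralizer_iff]
        intro w hw
        have hz' : z ∈ S.XZ (j + 4 + 4) := by rw [add_assoc]; exact hz
        exact comm4 S hw hz'
    · rw [le_centralizer_iff]
      refine sup_le ?_ ?_
      · intro z hz
        rw [mem_centralizer_iff]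
        intro w hw
        have hz' : z ∈ S.XZ (j + 4 + 8 + 4) := by
          rw [show j + 4 + 8 + 4 = j + 16 by ring, XZ_per]
          exact hz
        exact comm4 S hw hz'
      · intro z hz
        rw [mem_centralizer_iff]
        intro w hw
        have hw' : w ∈ S.XZ (j + 8 + 4) := by
          rw [show j + 8 + 4 = j + 4 + 8 by ring]
          exact hw
        exact (comm4 S hz hw').symm
  exact (mem_centralizer_iff.1 (h1 hx) y hy).symm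

/-- conjugation by the square of the rotation -/
theorem rot_sup {j : ℤ} {x : G} (hx : x ∈ S.XZ j ⊔ S.XZ (j + 8)) :
    S.rot ^ (2 : ℤ) * x * (S.rot ^ (2 : ℤ))⁻¹ ∈ S.XZ (j + 4) ⊔ S.XZ (j + 4 + 8) := by
  have h1 : S.XZ j ⊔ S.XZ (j + 8) ≤ (S.XZ (j + 4) ⊔ S.XZ (j + 4 + 8)).comap (MulAut.conj (S.rot ^ (2 : ℤ))).toMonoidHom := by
    refine sup_le (fun z hz => ?_) (fun z hz => ?_)
    · exact mem_sup_left (by
        have := S.rotk_X' 2 j hz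
        exact this)
    · refine mem_sup_right ?_
      have := S.rotk_X' 2 (j + 8) hz
      rw [show j + 8 + 2 * 2 = j + 4 + 8 by ring] at this
      exact this
  exact h1 hx

theorem card_odd (a : ℤ) : Nat.card (S.XZ (2 * a + 1)) = Nat.card F := by
  symm
  refine Nat.card_eq_of_bijective (fun t => (⟨S.o (a : ZMod 8) t, S.o_mem a t⟩ : S.XZ (2 * a + 1))) ⟨?_, ?_⟩
  · intro s t h
    exact S.injO _ (congrArg Subtype.val h)
  · rintro ⟨g, hg⟩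
    obtain ⟨t, rfl⟩ := (S.mem_XZ_odd a g).1 hg
    exact ⟨t, rfl⟩

theorem card_even (a : ℤ) : Nat.card (S.XZ (2 * a)) = Nat.card F ^ 2 := by
  rw [pow_two, ← Nat.card_prod]
  symm
  refine Nat.card_eq_of_bijective (fun t : F × F => (⟨S.e (a : ZMod 8) t.1 t.2, S.e_mem a t.1 t.2⟩ : S.XZ (2 * a)))
    ⟨?_, ?_⟩
  · rintro ⟨s, s'⟩ ⟨t, t'⟩ h
    obtain ⟨h1, h2⟩ := S.injE _ _ _ _ _ (congrArg Subtype.val h)
    exact Prod.ext h1 h2
  · rintro ⟨g, hg⟩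
    obtain ⟨t, u, rfl⟩ := (S.mem_XZ_even a g).1 hg
    exact ⟨(t, u), rfl⟩

variable [Finite F] [Finite G]

theorem cyc (hF : ∃ c : Fˣ, c ≠ 1) (hR : S.R.p = 2) {p : ℕ} [hp : Fact p.Prime] (hp2 : p ≠ 2)
    (hpq : ¬ p ∣ Nat.card F - 1) {j : ℤ} (P : Subgroup G) (hP : P ≤ S.XZ j ⊔ S.XZ (j + 8)) (hPp : IsPGroup p P) :
    IsCyclic P := by
  by_contra hnc
  obtain ⟨A, -, hA, hc⟩ := Cfsg.Agent.S0126.result hp2 hPp hnc
  obtain ⟨t, ht, htt, ht1⟩ : ∃ t ∈ S.XZ (j + 4), t * t = 1 ∧ t ≠ 1 := by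
    rcases Int.even_or_odd' (j + 4) with ⟨a, ha | ha⟩
    · rw [ha]
      refine ⟨S.e (a : ZMod 8) 0 1, S.e_mem a 0 1, Inv.z_sq S _ _, fun h => ?_⟩
      exact one_ne_zero (S.e_eq_one h).2
    · rw [ha]
      refine ⟨S.o (a : ZMod 8) 1, S.o_mem a 1, Inv.o_sq S _ _, fun h => ?_⟩
      exact one_ne_zero (S.o_eq_one h)
  refine Cfsg.Agent.PreUniq.LowExc.TwF4.not_pair S hF hR hp.out hp2 hpq (E := A.map P.subtype) ?_ ?_ htt ht1 ?_
  · refine ⟨?_, ?_⟩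
    · refine isMulCommutative_of ?_
      rintro _ ⟨a, ha, rfl⟩ _ ⟨b, hb, rfl⟩
      rw [← map_mul, ← map_mul, comm_of hA.1 ha hb]
    · rintro _ ⟨a, ha, rfl⟩
      rw [← map_pow, hA.2 a ha, map_one]
  · rw [Nat.card_congr (A.equivMapOfInjective P.subtype P.subtype_injective).toEquiv.symm, hc]
  · rintro _ ⟨a, ha, rfl⟩
    exact comm_LM S (hP a.2) (mem_sup_left ht)

theorem noquot {p : ℕ} [hp : Fact p.Prime] (hR : S.R.p = 2) (hp2 : p ≠ 2) {j : ℤ}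
    (K : Subgroup ↥(S.XZ j ⊔ S.XZ (j + 8))) (hK : K.Normal)
    (h : ∀ g : ↥(S.XZ j ⊔ S.XZ (j + 8)), ∃ k : ℕ, g ^ p ^ k ∈ K) : K = ⊤ := by
  have h2 : ∀ x : ↥(S.XZ j ⊔ S.XZ (j + 8)), (∃ n : ℕ, x ^ 2 ^ n = 1) → x ∈ K := by
    rintro x ⟨n, hn⟩
    obtain ⟨k, hk⟩ := h x
    have h3 : x ^ Nat.gcd (p ^ k) (2 ^ n) ∈ K := by
      rw [← zpow_natCast, Nat.gcd_eq_gcd_ab, zpow_add, zpow_mul, zpow_mul, zpow_natCast, zpow_natCast, hn, one_zpow,
        mul_one]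
      exact zpow_mem hk _
    have h4 : Nat.gcd (p ^ k) (2 ^ n) = 1 := Nat.Coprime.pow k n ((Nat.coprime_primes hp.out Nat.prime_two).2 hp2)
    rwa [h4, pow_one] at h3
  have hX : ∀ i : ℤ, S.XZ i ≤ S.XZ j ⊔ S.XZ (j + 8) → S.XZ i ≤ K.map (S.XZ j ⊔ S.XZ (j + 8)).subtype := by
    intro i hi x hx
    refine ⟨⟨x, hi hx⟩, h2 _ ?_, rfl⟩
    obtain ⟨n, hn⟩ := Inv.two_X S hR i ⟨x, hx⟩
    have h3 : x ^ 2 ^ n = 1 := congrArg Subtype.val hn
    exact ⟨n, Subtype.ext h3⟩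
  rw [eq_top_iff]
  rintro ⟨x, hx⟩ -
  obtain ⟨y, hy, hyx⟩ := (sup_le (hX j le_sup_left) (hX (j + 8) le_sup_right)) hx
  have : y = ⟨x, hx⟩ := Subtype.ext hyx
  rwa [← this]

theorem abIrr_of (hF : ∃ c : Fˣ, c ≠ 1) (hR : S.R.p = 2) {p : ℕ} [hp : Fact p.Prime] (hp2 : p ≠ 2)
    (hpq : ¬ p ∣ Nat.card F - 1) (j : ℤ) {a : ℕ} (ha : Nat.card (S.XZ j) + 1 = a)
    (hcard : (Nat.card G).factorization p = 2 * a.factorization p) : AbIrr p G := by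
  have hne : S.XZ j ≠ S.XZ (j + 8) := by
    intro h
    obtain ⟨x, hx, hx1⟩ := S.zsys8.exists_ne j
    exact hx1 (S.X_inf_opp hx (h ▸ hx))
  refine abIrr_of_pair (S.XZ j ⊔ S.XZ (j + 8)) (S.XZ (j + 4) ⊔ S.XZ (j + 4 + 8)) (S.rot ^ (2 : ℤ))
    (fun l hl m hm => comm_LM S hl hm) (fun l hl => rot_sup S hl) (fun m hm => ?_)
    (fun P hP hPp => cyc S hF hR hp2 hpq P hP hPp) (fun K hK h => noquot S hR hp2 K hK h) ?_
  · have h1 := rot_sup S hm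
    rw [show j + 4 + 4 + 8 = j + 16 by ring, XZ_per, show j + 4 + 4 = j + 8 by ring, sup_comm] at h1
    exact h1
  · rw [hcard]
    refine Nat.mul_le_mul_left 2 ?_
    have h1 := card_succ_dvd S.zsys8 hne
    rw [ha] at h1
    exact (Nat.factorization_le_iff_dvd (by rw [← ha]; omega) Nat.card_pos.ne').2 h1 p

theorem abIrr_plus (hF : ∃ c : Fˣ, c ≠ 1) (hR : S.R.p = 2) {p : ℕ} [hp : Fact p.Prime] (h5 : 5 ≤ p) {q : ℕ}
    (hq : Nat.card F = q) (hq2 : 2 ≤ q) (hG : Nat.card G = ord q) (h : p ∣ q + 1) : AbIrr p G := by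
  refine abIrr_of S hF hR (by omega) (by rw [hq]; exact not_dvd_sub_one_of_plus h5 hq2 h) 1 (a := q + 1) ?_ ?_
  · have := card_odd S 0
    rw [show (2 : ℤ) * 0 + 1 = 1 by ring] at this
    rw [this, hq]
  · rw [hG]
    exact fact_plus h5 hq2 h

theorem abIrr_sq (hF : ∃ c : Fˣ, c ≠ 1) (hR : S.R.p = 2) {p : ℕ} [hp : Fact p.Prime] (h5 : 5 ≤ p) {q : ℕ}
    (hq : Nat.card F = q) (hq2 : 2 ≤ q) (hG : Nat.card G = ord q) (h : p ∣ q ^ 2 + 1) : AbIrr p G := by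
  refine abIrr_of S hF hR (by omega) (by rw [hq]; exact not_dvd_sub_one_of_sq h5 hq2 h) 0 (a := q ^ 2 + 1) ?_ ?_
  · have := card_even S 0
    rw [show (2 : ℤ) * 0 = 0 by ring] at this
    rw [this, hq]
  · rw [hG]
    exact fact_sq h5 hq2 h

end

end Cfsg.Agent.H42.Tw
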