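import Mathlib
import Cfsg.Agent.ChevalleyStructure.TwF4.Fix
import Cfsg.Agent.ChevalleyStructure.F4NTab

/-!
# Linear forms on the root system of type `F₄` over a field of characteristic `≠ 2, 3`

`EV` : twice the coordinates of the roots with respect to an orthogonal frame of short roots (the roots
27, 28, 29, 44).  `L : ℕ → F` with `2 L s = ∑ j, EV s j * L (e_j)` is given by the vector `v j = L (e_j)`.

* `sum_sq` : if the values on the long roots are `λ` times those on the short roots, `λ² ≠ 2`, then `v · v = 0`;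
* `no_root` : if `v · v = 0`, `v ≠ 0` and the numbers of short and long roots in the kernel are equal and divisible
  by 6 then they are zero;
* `no_root_pair` : no root is in the kernel of two linearly independent orthogonal isotropic forms.
-/

set_option autoImplicit false

namespace Cfsg.Agent.H42.Tw

open Cfsg.Agent.ChevalleyStructure.F4NTab Cfsg.Agent.ChevalleyStructure.TwF4.Fix
open Cfsg.Agent.ChevalleyStructure.TwF4.Bits Cfsg.Agent.ChevalleyStructure.TwF4.Tables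
open Cfsg.Agent.ChevalleyStructure.TwF4.Rel

/-- twice the coordinates of the roots -/
def EV : List (List ℤ) := [[0, 0, -2, -2], [0, -2, 0, -2], [-2, 0, 0, -2], [0, 0, 0, -2], [2, 0, 0, -2],
  [0, 2, 0, -2], [0, 0, 2, -2], [-1, -1, -1, -1], [1, -1, -1, -1], [-1, 1, -1, -1], [-1, -1, 1, -1], [1, 1, -1, -1],
  [1, -1, 1, -1], [-1, 1, 1, -1], [1, 1, 1, -1], [0, -2, -2, 0], [-2, 0, -2, 0], [-2, -2, 0, 0], [0, 0, -2, 0],
  [0, -2, 0, 0], [-2, 0, 0, 0], [2, 0, -2, 0], [2, -2, 0, 0], [0, 2, -2, 0], [0, -2, 2, 0], [-2, 2, 0, 0],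
  [-2, 0, 2, 0], [2, 0, 0, 0], [0, 2, 0, 0], [0, 0, 2, 0], [2, 2, 0, 0], [2, 0, 2, 0], [0, 2, 2, 0],
  [-1, -1, -1, 1], [1, -1, -1, 1], [-1, 1, -1, 1], [-1, -1, 1, 1], [1, 1, -1, 1], [1, -1, 1, 1], [-1, 1, 1, 1],
  [1, 1, 1, 1], [0, 0, -2, 2], [0, -2, 0, 2], [-2, 0, 0, 2], [0, 0, 0, 2], [2, 0, 0, 2], [0, 2, 0, 2], [0, 0, 2, 2]]

/-- the entries of `EV` -/
def ev (s j : ℕ) : ℤ := (EV.getD s []).getD j 0

/-- the frame -/
def eb (j : ℕ) : ℕ := [27, 28, 29, 44].getD j 0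

/-- the entries for the positions -/
def evp (n j : ℕ) : ℤ := if n < 4 then 0 else ev (n - 4) j

theorem ev_ca : ((List.range 48).all fun s => (List.range 4).all fun i =>
    2 * ca i s == ev s 0 * ca i 27 + ev s 1 * ca i 28 + ev s 2 * ca i 29 + ev s 3 * ca i 44) = true := by
  decide +kernel

theorem two_ca {s i : ℕ} (hs : s < 48) (hi : i < 4) :
    2 * ca i s = ev s 0 * ca i 27 + ev s 1 * ca i 28 + ev s 2 * ca i 29 + ev s 3 * ca i 44 := by
  have h := ev_ca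
  rw [List.all_eq_true] at h
  have h1 := h s (List.mem_range.2 hs)
  rw [List.all_eq_true] at h1
  exact beq_iff_eq.1 (h1 i (List.mem_range.2 hi))

theorem gram_io : ∀ j k : Fin 4, ∑ i : Fin 26, evp (nthN ioN i.val) j.val * evp (nthN ioN i.val) k.val =
    if j = k then 24 else 0 := by decide +kernel

theorem gram_ro : ∀ j k : Fin 4, ∑ i : Fin 26, evp (nthN roN i.val) j.val * evp (nthN roN i.val) k.val =
    if j = k then 48 else 0 := by decide +kernel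

/-! ### the triple product -/

/-- the triple product of the vectors `a`, `b`, `c` -/
def nu (a b c : ℤ × ℤ × ℤ × ℤ) : ℤ × ℤ × ℤ × ℤ :=
  let p12 := a.2.1 * b.2.2.1 - a.2.2.1 * b.2.1
  let p13 := a.2.1 * b.2.2.2 - a.2.2.2 * b.2.1
  let p23 := a.2.2.1 * b.2.2.2 - a.2.2.2 * b.2.2.1
  let p02 := a.1 * b.2.2.1 - a.2.2.1 * b.1
  let p03 := a.1 * b.2.2.2 - a.2.2.2 * b.1
  let p01 := a.1 * b.2.1 - a.2.1 * b.1
  (p12 * c.2.2.2 - p13 * c.2.2.1 + p23 * c.2.1, -(p02 * c.2.2.2 - p03 * c.2.2.1 + p23 * c.1),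
    p01 * c.2.2.2 - p03 * c.2.1 + p13 * c.1, -(p01 * c.2.2.1 - p02 * c.2.1 + p12 * c.1))

/-- its norm -/
def nn (a b c : ℤ × ℤ × ℤ × ℤ) : ℤ :=
  let n := nu a b c
  n.1 * n.1 + n.2.1 * n.2.1 + n.2.2.1 * n.2.2.1 + n.2.2.2 * n.2.2.2

/-- the vector of a position -/
def vp (n : ℕ) : ℤ × ℤ × ℤ × ℤ := (evp n 0, evp n 1, evp n 2, evp n 3)

/-- the vectors of the positions of `ioN` -/
def IOV : List (ℤ × ℤ × ℤ × ℤ) :=
  [(0, 0, 0, -2), (-1, -1, -1, -1), (1, -1, -1, -1), (-1, 1, -1, -1), (-1, -1, 1, -1), (1, 1, -1, -1), (1, -1, 1,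
  -1), (-1, 1, 1, -1), (1, 1, 1, -1), (0, 0, -2, 0), (0, -2, 0, 0), (-2, 0, 0, 0), (0, 0, 0, 0), (0, 0, 0, 0), (2,
  0, 0, 0), (0, 2, 0, 0), (0, 0, 2, 0), (-1, -1, -1, 1), (1, -1, -1, 1), (-1, 1, -1, 1), (-1, -1, 1, 1), (1, 1, -1,
  1), (1, -1, 1, 1), (-1, 1, 1, 1), (1, 1, 1, 1), (0, 0, 0, 2)]

/-- the vectors of the positions of `roN` -/
def ROV : List (ℤ × ℤ × ℤ × ℤ) :=
  [(0, 0, -2, -2), (0, -2, 0, -2), (-2, 0, 0, -2), (2, 0, 0, -2), (0, -2, -2, 0), (0, 2, 0, -2), (-2, 0, -2, 0), (2,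
  0, -2, 0), (0, 2, -2, 0), (0, 0, 2, -2), (-2, -2, 0, 0), (2, -2, 0, 0), (0, 0, 0, 0), (0, 0, 0, 0), (-2, 2, 0, 0),
  (2, 2, 0, 0), (0, 0, -2, 2), (0, -2, 2, 0), (-2, 0, 2, 0), (2, 0, 2, 0), (0, -2, 0, 2), (0, 2, 2, 0), (-2, 0, 0,
  2), (2, 0, 0, 2), (0, 2, 0, 2), (0, 0, 2, 2)]

theorem IOV_eq : ((List.range 26).map fun i => vp (nthN ioN i)) = IOV := by decide +kernel
theorem ROV_eq : ((List.range 26).map fun i => vp (nthN roN i)) = ROV := by decide +kernel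

/-- the check for a pair -/
def chkP (X : List (ℤ × ℤ × ℤ × ℤ)) (a b : ℤ × ℤ × ℤ × ℤ) : Bool :=
  (a == (0, 0, 0, 0)) || (b == (0, 0, 0, 0)) ||
    ((X.all fun c => nn a b c == 0 || (384 : ℤ) % nn a b c == 0) && decide ((X.countP fun c => nn a b c == 0) ≤ 6))

def chkA (X Y : List (ℤ × ℤ × ℤ × ℤ)) : Bool := X.all fun a => Y.all fun b => chkP X a b

theorem chkA_io : chkA IOV ROV = true := by decide +kernel

/-! ### linear forms -/

section

variable {F : Type*} [Field F]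

/-- `L` is given by its values on the frame -/
def Lin (L : ℕ → F) : Prop :=
  ∀ s < 48, 2 * L s = (ev s 0 : F) * L 27 + (ev s 1 : F) * L 28 + (ev s 2 : F) * L 29 + (ev s 3 : F) * L 44

/-- the values at the positions -/
def Lp (L : ℕ → F) (n : ℕ) : F := if n < 4 then 0 else L (n - 4)

variable {L : ℕ → F}

theorem two_Lp (hL : Lin L) {n : ℕ} (hn : n < 52) :
    2 * Lp L n = (evp n 0 : F) * L 27 + (evp n 1 : F) * L 28 + (evp n 2 : F) * L 29 + (evp n 3 : F) * L 44 := by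
  unfold Lp evp
  by_cases h : n < 4
  · simp [h]
  · simp only [h, if_false]
    exact hL (n - 4) (by omega)

/-- the frame values -/
def fv (L : ℕ → F) : Fin 4 → F := ![L 27, L 28, L 29, L 44]

theorem two_Lp' (hL : Lin L) {n : ℕ} (hn : n < 52) : 2 * Lp L n = ∑ j : Fin 4, (evp n j.val : F) * fv L j := by
  rw [two_Lp hL hn, Fin.sum_univ_four]
  rfl

theorem sum_gen (a : Fin 26 → ℕ) (ha : ∀ i, a i < 52) (hL : Lin L) (g : ℤ)
    (hg : ∀ j k : Fin 4, ∑ i : Fin 26, evp (a i) j.val * evp (a i) k.val = if j = k then g else 0) :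
    ∑ i : Fin 26, (2 * Lp L (a i)) ^ 2 = (g : F) * ∑ j, fv L j ^ 2 := by
  have h1 : ∀ i : Fin 26, (2 * Lp L (a i)) ^ 2 =
      ∑ j : Fin 4, ∑ k : Fin 4, ((evp (a i) j.val * evp (a i) k.val : ℤ) : F) * (fv L j * fv L k) := by
    intro i
    rw [two_Lp' hL (ha i), pow_two, Finset.sum_mul_sum]
    refine Finset.sum_congr rfl fun j _ => Finset.sum_congr rfl fun k _ => ?_
    push_cast
    ring
  rw [Finset.sum_congr rfl fun i _ => h1 i, Finset.sum_comm, Finset.mul_sum]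
  refine Finset.sum_congr rfl fun j _ => ?_
  rw [Finset.sum_comm, Finset.sum_eq_single j]
  · rw [← Finset.sum_mul, ← Int.cast_sum, hg, if_pos rfl, pow_two]
  · intro k _ hk
    rw [← Finset.sum_mul, ← Int.cast_sum, hg, if_neg (Ne.symm hk), Int.cast_zero, zero_mul]
  · intro h
    exact absurd (Finset.mem_univ _) h

theorem ioN_lt (i : Fin 26) : nthN ioN i.val < 52 := by
  have : ∀ i : Fin 26, nthN ioN i.val < 52 := by decide
  exact this i

theorem roN_lt (i : Fin 26) : nthN roN i.val < 52 := by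
  have : ∀ i : Fin 26, nthN roN i.val < 52 := by decide
  exact this i

/-- the multiset relation forces `v · v = 0` -/
theorem sum_sq (h2 : (2 : F) ≠ 0) (h3 : (3 : F) ≠ 0) (hL : Lin L) {lam : F} (hlam : lam ^ 2 ≠ 2)
    (h : Finset.univ.val.map (fun i : Fin 26 => Lp L (nthN roN i.val)) =
      Finset.univ.val.map fun i : Fin 26 => lam * Lp L (nthN ioN i.val)) : ∑ j, fv L j ^ 2 = 0 := by
  have h1 := congrArg (fun M : Multiset F => (M.map fun x => (2 * x) ^ 2).sum) h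
  simp only [Multiset.map_map, Function.comp_def] at h1
  change ∑ i : Fin 26, (2 * Lp L (nthN roN i.val)) ^ 2 = ∑ i : Fin 26, (2 * (lam * Lp L (nthN ioN i.val))) ^ 2 at h1
  have e1 := sum_gen _ roN_lt hL 48 gram_ro
  have e2 := sum_gen _ ioN_lt hL 24 gram_io
  have e3 : ∑ i : Fin 26, (2 * (lam * Lp L (nthN ioN i.val))) ^ 2 =
      lam ^ 2 * ∑ i : Fin 26, (2 * Lp L (nthN ioN i.val)) ^ 2 := by
    rw [Finset.mul_sum]
    exact Finset.sum_congr rfl fun i _ => by ring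
  rw [e1, e3, e2] at h1
  push_cast at h1
  have h4 : (2 - lam ^ 2) * (2 ^ 3 * 3) * ∑ j, fv L j ^ 2 = 0 := by linear_combination h1
  rcases mul_eq_zero.1 h4 with h5 | h5
  · exfalso
    rcases mul_eq_zero.1 h5 with h6 | h6
    · exact hlam (sub_eq_zero.1 h6).symm
    · rcases mul_eq_zero.1 h6 with h7 | h7
      · exact pow_ne_zero 3 h2 h7
      · exact h3 h7
  · exact h5

/-- the product with an integral vector -/
def dp (a : ℤ × ℤ × ℤ × ℤ) (L : ℕ → F) : F :=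
  (a.1 : F) * L 27 + (a.2.1 : F) * L 28 + (a.2.2.1 : F) * L 29 + (a.2.2.2 : F) * L 44

theorem two_Lp_dp (hL : Lin L) {n : ℕ} (hn : n < 52) : 2 * Lp L n = dp (vp n) L := two_Lp hL hn

theorem nn_eq_zero {a b c : ℤ × ℤ × ℤ × ℤ} (ha : dp a L = 0) (hb : dp b L = 0) (hc : dp c L = 0)
    (hv : ∑ j, fv L j ^ 2 = 0) (hne : ∃ j, fv L j ≠ 0) : ((nn a b c : ℤ) : F) = 0 := by
  obtain ⟨a0, a1, a2, a3⟩ := a
  obtain ⟨b0, b1, b2, b3⟩ := b
  obtain ⟨c0, c1, c2, c3⟩ := c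
  simp only [dp] at ha hb hc
  rw [Fin.sum_univ_four] at hv
  change L 27 ^ 2 + L 28 ^ 2 + L 29 ^ 2 + L 44 ^ 2 = 0 at hv
  have hne' : L 27 ≠ 0 ∨ L 28 ≠ 0 ∨ L 29 ≠ 0 ∨ L 44 ≠ 0 := by
    obtain ⟨j, hj⟩ := hne
    fin_cases j
    · exact Or.inl hj
    · exact Or.inr (Or.inl hj)
    · exact Or.inr (Or.inr (Or.inl hj))
    · exact Or.inr (Or.inr (Or.inr hj))
  simp only [nn, nu]
  push_cast
  generalize L 27 = v0 at *
  generalize L 28 = v1 at *
  generalize L 29 = v2 at *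
  generalize L 44 = v3 at *
  generalize (a0 : F) = A0 at *
  generalize (a1 : F) = A1 at *
  generalize (a2 : F) = A2 at *
  generalize (a3 : F) = A3 at *
  generalize (b0 : F) = B0 at *
  generalize (b1 : F) = B1 at *
  generalize (b2 : F) = B2 at *
  generalize (b3 : F) = B3 at *
  generalize (c0 : F) = C0 at *
  generalize (c1 : F) = C1 at *
  generalize (c2 : F) = C2 at *
  generalize (c3 : F) = C3 at *
  -- the components
  obtain ⟨n0, hn0⟩ : ∃ x, x = (A1 * B2 - A2 * B1) * C3 - (A1 * B3 - A3 * B1) * C2 + (A2 * B3 - A3 * B2) * C1 := ⟨_, rfl⟩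
  obtain ⟨n1, hn1⟩ : ∃ x, x = -((A0 * B2 - A2 * B0) * C3 - (A0 * B3 - A3 * B0) * C2 + (A2 * B3 - A3 * B2) * C0) :=
    ⟨_, rfl⟩
  obtain ⟨n2, hn2⟩ : ∃ x, x = (A0 * B1 - A1 * B0) * C3 - (A0 * B3 - A3 * B0) * C1 + (A1 * B3 - A3 * B1) * C0 := ⟨_, rfl⟩
  obtain ⟨n3, hn3⟩ : ∃ x, x = -((A0 * B1 - A1 * B0) * C2 - (A0 * B2 - A2 * B0) * C1 + (A1 * B2 - A2 * B1) * C0) :=
    ⟨_, rfl⟩
  rw [← hn0, ← hn1, ← hn2, ← hn3]
  have e01 : n0 * v1 = n1 * v0 := by
    rw [hn0, hn1]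
    linear_combination (B2 * C3 - B3 * C2) * ha - (A2 * C3 - A3 * C2) * hb + (A2 * B3 - A3 * B2) * hc
  have e02 : n0 * v2 = n2 * v0 := by
    rw [hn0, hn2]
    linear_combination -(B1 * C3 - B3 * C1) * ha + (A1 * C3 - A3 * C1) * hb - (A1 * B3 - A3 * B1) * hc
  have e03 : n0 * v3 = n3 * v0 := by
    rw [hn0, hn3]
    linear_combination (B1 * C2 - B2 * C1) * ha - (A1 * C2 - A2 * C1) * hb + (A1 * B2 - A2 * B1) * hc
  have e12 : n1 * v2 = n2 * v1 := by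
    rw [hn1, hn2]
    linear_combination (B0 * C3 - B3 * C0) * ha - (A0 * C3 - A3 * C0) * hb + (A0 * B3 - A3 * B0) * hc
  have e13 : n1 * v3 = n3 * v1 := by
    rw [hn1, hn3]
    linear_combination -(B0 * C2 - B2 * C0) * ha + (A0 * C2 - A2 * C0) * hb - (A0 * B2 - A2 * B0) * hc
  have e23 : n2 * v3 = n3 * v2 := by
    rw [hn2, hn3]
    linear_combination (B0 * C1 - B1 * C0) * ha - (A0 * C1 - A1 * C0) * hb + (A0 * B1 - A1 * B0) * hc
  have fin : ∀ v n : F, v ≠ 0 → (n0 * n0 + n1 * n1 + n2 * n2 + n3 * n3) * v ^ 2 = n ^ 2 * (v0 ^ 2 + v1 ^ 2 + v2 ^ 2 + v3 ^ 2) →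
      n0 * n0 + n1 * n1 + n2 * n2 + n3 * n3 = 0 := by
    intro v n hv1 h
    rw [hv, mul_zero] at h
    exact (mul_eq_zero.1 h).resolve_right (pow_ne_zero 2 hv1)
  rcases hne' with h | h | h | h
  · refine fin v0 n0 h ?_
    linear_combination -(n1 * v0 + n0 * v1) * e01 - (n2 * v0 + n0 * v2) * e02 - (n3 * v0 + n0 * v3) * e03
  · refine fin v1 n1 h ?_
    linear_combination (n1 * v0 + n0 * v1) * e01 - (n2 * v1 + n1 * v2) * e12 - (n3 * v1 + n1 * v3) * e13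
  · refine fin v2 n2 h ?_
    linear_combination (n2 * v0 + n0 * v2) * e02 + (n2 * v1 + n1 * v2) * e12 - (n3 * v2 + n2 * v3) * e23
  · refine fin v3 n3 h ?_
    linear_combination (n3 * v0 + n0 * v3) * e03 + (n3 * v1 + n1 * v3) * e13 + (n3 * v2 + n2 * v3) * e23

end

end Cfsg.Agent.H42.Tw
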