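import Mathlib
import Cfsg.Agent.ChevalleyStructure.TwF4.Torus
import Cfsg.Agent.ChevalleyStructure.TwF4.TwistedFix
import Cfsg.Agent.H42.Tw.F4Three

/-!
# The characters of the elements of `²F₄(q)` conjugate into the torus of `F₄`

`g ∈ ²F₄(q)`, `y g y⁻¹ = T c`, `y ∈ F₄(k)`, `k ⊇ K`: the values of `T c` on the long roots are the images under
`x ↦ x ^ (2 ^ (m + 1))` of the values on the short roots (`long_eq`), and the latter are permuted by `x ↦ x ^ q`
(`short_eq`).
-/

set_option autoImplicit false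

namespace Cfsg.Agent.H42.Tw

open Cfsg Cfsg.Lie Cfsg.Agent.ChevalleyStructure.TwF4.Fix Cfsg.Agent.ChevalleyStructure.TwF4.Torus
open Cfsg.Agent.ChevalleyStructure.TwF4.TwistedFix Cfsg.Agent.ChevalleyStructure.TwF4.Rel Polynomial

/-- all elements of `F₄(k)`, `k` of characteristic `2`, are in block form -/
theorem blk_of_mem {k : Type*} [Field k] [CharP k 2] {y : GL chevF4.Idx k} (hy : y ∈ chevF4.group k) :
    Blk (y : Matrix chevF4.Idx chevF4.Idx k) := by
  have key : ∀ (r : Fin chevF4.nroots) (t : k) (g : GL chevF4.Idx k),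
      (g : Matrix chevF4.Idx chevF4.Idx k) = chevF4.xMat k r t → g = X r.val t := by
    intro r t g hg
    rw [eq_X_iff, hg]
    unfold ChevalleyDatum.x
    rw [dif_pos r.2]
  unfold ChevalleyDatum.group at hy
  induction hy using Subgroup.closure_induction'' with
  | mem g hg =>
    obtain ⟨r, t, hg⟩ := hg
    rw [key r t g hg]
    exact x_Blk _ _
  | inv_mem g hg =>
    obtain ⟨r, t, hg⟩ := hg
    rw [key r t g hg, X_inv]
    exact x_Blk _ _
  | one => exact Blk_one
  | mul a b _ _ ha hb =>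
    rw [Units.val_mul]
    exact Blk_mul ha hb

section

variable {K k : Type*} [Field K] [Field k]

theorem Amat_map (ι : K →+* k) (g : Matrix chevF4.Idx chevF4.Idx K) : Amat (g.map ι) = (Amat g).map ι := rfl

theorem Cmat_map (ι : K →+* k) (g : Matrix chevF4.Idx chevF4.Idx K) : Cmat (g.map ι) = (Cmat g).map ι := rfl

theorem charpoly_A_conj [CharP k 2] {y g : GL chevF4.Idx k} (hy : y ∈ chevF4.group k) (hg : g ∈ chevF4.group k) :
    (Amat ((y * g * y⁻¹ : GL chevF4.Idx k) : Matrix chevF4.Idx chevF4.Idx k)).charpoly =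
      (Amat (g : Matrix chevF4.Idx chevF4.Idx k)).charpoly := by
  have hy' := blk_of_mem (inv_mem hy)
  rw [Units.val_mul, Units.val_mul, Amat_mul hy', Amat_mul (blk_of_mem hg), Matrix.mul_assoc, Matrix.charpoly_mul_comm,
    Matrix.mul_assoc, ← Amat_mul (blk_of_mem hy), ← Units.val_mul, inv_mul_cancel, Units.val_one, Amat_one,
    Matrix.mul_one]

theorem charpoly_C_conj [CharP k 2] {y g : GL chevF4.Idx k} (hy : y ∈ chevF4.group k) (hg : g ∈ chevF4.group k) :
    (Cmat ((y * g * y⁻¹ : GL chevF4.Idx k) : Matrix chevF4.Idx chevF4.Idx k)).charpoly =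
      (Cmat (g : Matrix chevF4.Idx chevF4.Idx k)).charpoly := by
  rw [Units.val_mul, Cmat_mul (blk_of_mem (mul_mem hy hg)), Units.val_mul, Cmat_mul (blk_of_mem hy), Matrix.mul_assoc,
    Matrix.charpoly_mul_comm, Matrix.mul_assoc, ← Cmat_mul (blk_of_mem (inv_mem hy)), ← Units.val_mul, inv_mul_cancel,
    Units.val_one, Cmat_one, Matrix.mul_one]

theorem Amat_T (c : Fin 4 → kˣ) : Amat ((T c : GL chevF4.Idx k) : Matrix chevF4.Idx chevF4.Idx k) =
    Matrix.diagonal fun i => (chiIdx c (io i) : k) := by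
  rw [coe_T]
  exact Matrix.submatrix_diagonal _ _ io_inj

theorem Cmat_T (c : Fin 4 → kˣ) : Cmat ((T c : GL chevF4.Idx k) : Matrix chevF4.Idx chevF4.Idx k) =
    Matrix.diagonal fun i => (chiIdx c (ro i) : k) := by
  rw [coe_T]
  exact Matrix.submatrix_diagonal _ _ ro_inj

theorem multiset_eq {f g : Fin 26 → k} (h : ∏ i, (Polynomial.X - C (f i)) = ∏ i, (Polynomial.X - C (g i))) :
    Finset.univ.val.map f = Finset.univ.val.map g := by
  have h1 : (Finset.univ.val.map f).map (fun a => (Polynomial.X - C a : k[X])) =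
      Finset.univ.val.map fun i => (Polynomial.X - C (f i) : k[X]) := Multiset.map_map _ _ _
  have h2 : (Finset.univ.val.map g).map (fun a => (Polynomial.X - C a : k[X])) =
      Finset.univ.val.map fun i => (Polynomial.X - C (g i) : k[X]) := Multiset.map_map _ _ _
  rw [← Polynomial.roots_multiset_prod_X_sub_C (Finset.univ.val.map f),
    ← Polynomial.roots_multiset_prod_X_sub_C (Finset.univ.val.map g), h1, h2]
  exact congrArg _ h

variable [CharP K 2] [Finite K] [CharP k 2]

/-- the long roots -/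
theorem long_eq {m : ℕ} {φ : K →+* K} (hφ : Rln φ (2 ^ m)) (ι : K →+* k) {g : GL chevF4.Idx K}
    (hg : g ∈ Lie.twistedF4 K (2 ^ m)) {y : GL chevF4.Idx k} (hy : y ∈ chevF4.group k)
    (hgk : glF K k ι g ∈ chevF4.group k) {c : Fin 4 → kˣ} (h : y * glF K k ι g * y⁻¹ = T c) :
    Finset.univ.val.map (fun i : Fin 26 => (chiIdx c (ro i) : k)) =
      Finset.univ.val.map fun i : Fin 26 => (chiIdx c (io i) : k) ^ 2 ^ (m + 1) := by
  apply multiset_eq
  have e1 : (Cmat ((T c : GL chevF4.Idx k) : Matrix chevF4.Idx chevF4.Idx k)).charpoly =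
      ((Cmat (g : Matrix chevF4.Idx chevF4.Idx K)).charpoly).map ι := by
    rw [← h, charpoly_C_conj hy hgk, coe_glF, Cmat_map, Matrix.charpoly_map]
  have e2 : (Amat ((T c : GL chevF4.Idx k) : Matrix chevF4.Idx chevF4.Idx k)).charpoly =
      ((Amat (g : Matrix chevF4.Idx chevF4.Idx K)).charpoly).map ι := by
    rw [← h, charpoly_A_conj hy hgk, coe_glF, Amat_map, Matrix.charpoly_map]
  have hF := (mem_Fix φ g).1 (twisted_le_Fix hφ hg)
  have : Fact (Nat.Prime 2) := ⟨Nat.prime_two⟩
  have e3 : ι.comp φ = (iterateFrobenius k 2 (m + 1)).comp ι := by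
    ext x
    rw [RingHom.comp_apply, RingHom.comp_apply, iterateFrobenius_def, hφ.phi, map_pow, map_pow, ← pow_mul, pow_succ]
  have e4 : (Cmat ((T c : GL chevF4.Idx k) : Matrix chevF4.Idx chevF4.Idx k)).charpoly =
      ((Amat ((T c : GL chevF4.Idx k) : Matrix chevF4.Idx chevF4.Idx k)).charpoly).map
        (iterateFrobenius k 2 (m + 1)) := by
    rw [e1, e2, hF.2, Matrix.charpoly_map, Polynomial.map_map, Polynomial.map_map, e3]
  rw [Cmat_T, Amat_T, Matrix.charpoly_diagonal, Matrix.charpoly_diagonal, Polynomial.map_prod] at e4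
  rw [e4]
  refine Finset.prod_congr rfl fun i _ => ?_
  rw [Polynomial.map_sub, Polynomial.map_X, Polynomial.map_C, iterateFrobenius_def]

omit [CharP K 2] in
/-- the short roots -/
theorem short_eq {n : ℕ} (hK : Nat.card K = 2 ^ n) (ι : K →+* k) {g : GL chevF4.Idx K}
    {y : GL chevF4.Idx k} (hy : y ∈ chevF4.group k)
    (hgk : glF K k ι g ∈ chevF4.group k) {c : Fin 4 → kˣ} (h : y * glF K k ι g * y⁻¹ = T c) :
    Finset.univ.val.map (fun i : Fin 26 => (chiIdx c (io i) : k)) =
      Finset.univ.val.map fun i : Fin 26 => (chiIdx c (io i) : k) ^ 2 ^ n := by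
  apply multiset_eq
  have e2 : (Amat ((T c : GL chevF4.Idx k) : Matrix chevF4.Idx chevF4.Idx k)).charpoly =
      ((Amat (g : Matrix chevF4.Idx chevF4.Idx K)).charpoly).map ι := by
    rw [← h, charpoly_A_conj hy hgk, coe_glF, Amat_map, Matrix.charpoly_map]
  have : Fact (Nat.Prime 2) := ⟨Nat.prime_two⟩
  have e3 : ι = (iterateFrobenius k 2 n).comp ι := by
    have := Fintype.ofFinite K
    ext x
    rw [RingHom.comp_apply, iterateFrobenius_def, ← map_pow, ← hK, Nat.card_eq_fintype_card, FiniteField.pow_card]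
  have e4 : (Amat ((T c : GL chevF4.Idx k) : Matrix chevF4.Idx chevF4.Idx k)).charpoly =
      ((Amat ((T c : GL chevF4.Idx k) : Matrix chevF4.Idx chevF4.Idx k)).charpoly).map
        (iterateFrobenius k 2 n) := by
    conv_lhs => rw [e2, e3, ← Polynomial.map_map, ← e2]
  rw [Amat_T, Matrix.charpoly_diagonal, Polynomial.map_prod] at e4
  rw [e4]
  refine Finset.prod_congr rfl fun i _ => ?_
  rw [Polynomial.map_sub, Polynomial.map_X, Polynomial.map_C, iterateFrobenius_def]

end

end Cfsg.Agent.H42.Tw
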