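import Mathlib
import Cfsg.Agent.H795.TorSub

/-!
# Centralisers of subsets of the torus on which no root is trivial
-/

set_option autoImplicit false

namespace Cfsg.Agent.H42.Tw

open CoxeterSystem Cfsg Cfsg.Lie Cfsg.Lie.ChevalleyDatum
open Cfsg.Agent.ChevalleyStructure Cfsg.Agent.ChevalleyStructure.Elts Cfsg.Agent.ChevalleyStructure.CoxeterGeom
  Cfsg.Agent.ChevalleyStructure.CoxeterGeomTypes Cfsg.Agent.ChevalleyStructure.NPerm
open Cfsg.Agent.Tits.Roots Cfsg.Agent.Tits.Core Cfsg.Agent.Nodes Cfsg.Agent.Nodes.Reps Cfsg.Agent.Nodes.BNOf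
  Cfsg.Agent.Nodes.RGDChev Cfsg.Agent.Nodes.Bruhat Cfsg.Agent.Nodes.OppDec
open Cfsg.Agent.KFacts.RgdField Cfsg.Agent.KFacts.RgdChevCoord Cfsg.Agent.BpExc.TorCent Cfsg.Agent.BpExc.TorChev
open Cfsg.Agent.CpAut.RgdFix Cfsg.Agent.CpAut.RgdSub Cfsg.Agent.KFacts.RgdDiag
open Cfsg.Agent.GpExc.Field Cfsg.Agent.BpExc.Tow Cfsg.Agent.BpExc.TowChev
open Cfsg.Agent.H795.SetCent Cfsg.Agent.H795.SetTor

universe u

variable {D : ChevalleyDatum} {l : ℕ} {M : CoxeterMatrix (Fin l)} (hp : IsType D l M)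
  (r : ℕ) [Fact r.Prime] {k : Type u} [Field k] [CharP k r]

include hp r in
/-- **The centraliser of a set of `p`-elements of the torus on which no root is trivial is the torus** (`p` prime to the
order of the Weyl group). -/
theorem mem_TT_of_comm (hk : LocFin k) {p : ℕ} (hpp : p.Prime) (hW : ¬ p ∣ Nat.card M.Group)
    {Z : Set ↥(D.group k)} (hfin : Z.Finite) (hZ : Z ⊆ TT D k) (hZp : ∀ t ∈ Z, ∃ m : ℕ, t ^ p ^ m = 1)
    (hroot : ∀ s < D.nroots, ∃ t ∈ Z, ch hp (vec D l s) t ≠ 1) {c : ↥(D.group k)} (hc : ∀ t ∈ Z, c * t = t * c) :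
    c ∈ TT D k := by

  have hWf := finite_W hp (M.toCoxeterSystem)
  have H := tow (k := k) hp M.toCoxeterSystem hk r
  have hA := chAddL (k := k) hp M.toCoxeterSystem hk r
  have C := coordsL (k := k) hp M.toCoxeterSystem hk r
  have hG := GG_eq_top (k := k) hp M.toCoxeterSystem hk
  have hTL := TL_eq (k := k) hp hk
  have hXL := XL_eq (k := k) hp hk
  have C' : Coords M.toCoxeterSystem hp.isCartan (TL (Tj hp (k := k))) (nc hp k) (XL (Xj hp (k := k))) (xc hp)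
      (ch hp) := by
    rw [hTL, hXL]; exact C
  have hA' : ChAdd M.toCoxeterSystem hp.isCartan (TL (Tj hp (k := k))) (ch (K := k) hp) := by rw [hTL]; exact hA
  have hW2 : ¬ p ^ 2 ∣ Nat.card M.Group := fun h => hW (dvd_trans (dvd_pow_self p two_ne_zero) h)
  obtain ⟨m, hm, t, ht, rfl⟩ := exists_form_MMT H C' hG hA' hfin (by rw [hTL]; exact hZ) hpp hZp hW2
    (tors_of_not_dvd hW) hc
  have hempty : SxZ M.toCoxeterSystem hp.isCartan (ch hp) Z = ∅ := by
    rw [Set.eq_empty_iff_forall_notMem]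
    rintro a ⟨ha, ha1⟩
    obtain ⟨s, hs, rfl⟩ := (isRoot_iff hp M.toCoxeterSystem a).1 ha
    obtain ⟨t, ht, ht1⟩ := hroot s hs
    exact ht1 (ha1 t ht)
  have hm1 : m = 1 := by
    unfold MMZ at hm
    rw [hempty] at hm
    have h1 : RGD.Sup (XL (Xj hp (k := k))) ∅ ≤ ⊥ := RGD.Sup_le fun a ha => absurd ha (Set.notMem_empty a)
    exact Subgroup.mem_bot.1 (h1 hm)
  rw [hm1, one_mul, ← hTL]
  exact ht

end Cfsg.Agent.H42.Tw
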