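import Mathlib
import Cfsg.Agent.H42.Tw.F4Nor
import Cfsg.Agent.H42.Tw.F4Lin
import Cfsg.Agent.H42.Tw.F4Mat
import Cfsg.Agent.S1092

/-!
# Toral `p`-subgroups of `²F₄(q)`

`lg` : the discrete logarithm with respect to a primitive `p`-th root of unity.
-/

set_option autoImplicit false

namespace Cfsg.Agent.H42.Tw

open Cfsg Cfsg.Lie Cfsg.Lie.ChevalleyDatum Cfsg.Agent.ChevalleyStructure.TwF4.Torus
open Cfsg.Agent.ChevalleyStructure.TwF4.Fix Cfsg.Agent.ChevalleyStructure.TwF4.TwistedFix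
open Cfsg.Agent.ChevalleyStructure.F4NTab
open Cfsg.Agent.ChevalleyStructure.TwF4.Bits Cfsg.Agent.ChevalleyStructure.TwF4.Tables
open Cfsg.Agent.ChevalleyStructure.TwF4.Rel

universe u

/-! ### discrete logarithms -/

section Log

variable {k : Type*} [Field k] {p : ℕ} {ζ : kˣ}

open Classical in
/-- the discrete logarithm -/
noncomputable def lg (p : ℕ) (ζ x : kˣ) : ZMod p := if h : ∃ n : ℕ, ζ ^ n = x then (h.choose : ZMod p) else 0

variable (hζ : orderOf ζ = p)

include hζ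

theorem lg_pow (n : ℕ) : lg p ζ (ζ ^ n) = n := by
  have h : ∃ m : ℕ, ζ ^ m = ζ ^ n := ⟨n, rfl⟩
  unfold lg
  rw [dif_pos h]
  have h1 := h.choose_spec
  rw [pow_eq_pow_iff_modEq, hζ] at h1
  exact (ZMod.natCast_eq_natCast_iff _ _ _).2 h1

theorem exists_pow [NeZero p] {x : kˣ} (hx : x ^ p = 1) : ∃ n : ℕ, ζ ^ n = x := by
  have h1 : IsPrimitiveRoot (ζ : k) p := by
    rw [IsPrimitiveRoot.coe_units_iff, ← hζ]
    exact IsPrimitiveRoot.orderOf ζ
  obtain ⟨i, -, hi⟩ := h1.eq_pow_of_pow_eq_one (ξ := (x : k)) (by rw [← Units.val_pow_eq_pow_val, hx, Units.val_one])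
  exact ⟨i, Units.ext (by rw [Units.val_pow_eq_pow_val, hi])⟩

theorem lg_one : lg p ζ 1 = 0 := by
  have := lg_pow hζ 0
  rwa [pow_zero, Nat.cast_zero] at this

theorem lg_mul [NeZero p] {x y : kˣ} (hx : x ^ p = 1) (hy : y ^ p = 1) : lg p ζ (x * y) = lg p ζ x + lg p ζ y := by
  obtain ⟨a, rfl⟩ := exists_pow hζ hx
  obtain ⟨b, rfl⟩ := exists_pow hζ hy
  rw [← pow_add, lg_pow hζ, lg_pow hζ, lg_pow hζ, Nat.cast_add]

theorem lg_npow [NeZero p] {x : kˣ} (hx : x ^ p = 1) (n : ℕ) : lg p ζ (x ^ n) = n * lg p ζ x := by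
  obtain ⟨a, rfl⟩ := exists_pow hζ hx
  rw [← pow_mul, lg_pow hζ, lg_pow hζ, Nat.cast_mul, mul_comm]

theorem lg_inv [NeZero p] {x : kˣ} (hx : x ^ p = 1) : lg p ζ x⁻¹ = -lg p ζ x := by
  rw [eq_neg_iff_add_eq_zero, ← lg_mul hζ (by rw [inv_pow, hx, inv_one]) hx, inv_mul_cancel, lg_one hζ]

theorem lg_zpow [NeZero p] {x : kˣ} (hx : x ^ p = 1) (n : ℤ) : lg p ζ (x ^ n) = n * lg p ζ x := by
  obtain ⟨a, rfl | rfl⟩ := n.eq_nat_or_neg
  · rw [zpow_natCast, lg_npow hζ hx, Int.cast_natCast]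
  · rw [zpow_neg, zpow_natCast, lg_inv hζ (by rw [← pow_mul, mul_comm, pow_mul, hx, one_pow]), lg_npow hζ hx,
      Int.cast_neg, Int.cast_natCast, neg_mul]

theorem eq_one_of_lg [NeZero p] {x : kˣ} (hx : x ^ p = 1) (h : lg p ζ x = 0) : x = 1 := by
  obtain ⟨a, rfl⟩ := exists_pow hζ hx
  rw [lg_pow hζ, ZMod.natCast_eq_zero_iff] at h
  obtain ⟨b, rfl⟩ := h
  rw [pow_mul, ← hζ, pow_orderOf_eq_one, one_pow]

end Log

/-! ### the linear form of a torus element -/

section Form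

variable {k : Type*} [Field k] {p : ℕ} {ζ : kˣ}

/-- the logarithms of the characters -/
noncomputable def LL (p : ℕ) (ζ : kˣ) (c : Fin 4 → kˣ) (s : ℕ) : ZMod p := lg p ζ (chi c s)

theorem chi_npow (c : Fin 4 → kˣ) (s n : ℕ) : chi (c ^ n) s = chi c s ^ n := by
  induction n with
  | zero => rw [pow_zero, pow_zero, chi_one]
  | succ n ih => rw [pow_succ, chi_mul, ih, pow_succ]

theorem chi_pow_eq_one {c : Fin 4 → kˣ} (hc : c ^ p = 1) (s : ℕ) : chi c s ^ p = 1 := by
  rw [← chi_npow, hc, chi_one]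

variable (hζ : orderOf ζ = p) [hfp : Fact p.Prime]

include hζ

theorem LL_eq {c : Fin 4 → kˣ} (hc : c ^ p = 1) (s : ℕ) : LL p ζ c s = (ca 0 s : ZMod p) * lg p ζ (c 0) +
    (ca 1 s : ZMod p) * lg p ζ (c 1) + (ca 2 s : ZMod p) * lg p ζ (c 2) + (ca 3 s : ZMod p) * lg p ζ (c 3) := by
  have h : ∀ i, c i ^ p = 1 := fun i => congrFun hc i
  have h' : ∀ i, ∀ n : ℤ, (c i ^ n) ^ p = 1 := fun i n => by
    rw [← zpow_natCast, ← zpow_mul, mul_comm, zpow_mul, zpow_natCast, h, one_zpow]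
  unfold LL
  rw [chi_def, lg_mul hζ _ (h' 3 _), lg_mul hζ _ (h' 2 _), lg_mul hζ (h' 0 _) (h' 1 _), lg_zpow hζ (h 0),
    lg_zpow hζ (h 1), lg_zpow hζ (h 2), lg_zpow hζ (h 3)]
  · rw [mul_pow, h', h', one_mul]
  · rw [mul_pow, mul_pow, h', h', h', one_mul, one_mul]

theorem lin_LL {c : Fin 4 → kˣ} (hc : c ^ p = 1) : Lin (LL p ζ c) := by
  intro s hs
  simp only [LL_eq hζ hc]
  have e : ∀ i < 4, (2 : ZMod p) * (ca i s : ZMod p) = (ev s 0 : ZMod p) * (ca i 27 : ZMod p) +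
      (ev s 1 : ZMod p) * (ca i 28 : ZMod p) + (ev s 2 : ZMod p) * (ca i 29 : ZMod p) +
      (ev s 3 : ZMod p) * (ca i 44 : ZMod p) := by
    intro i hi
    exact_mod_cast congrArg (Int.cast : ℤ → ZMod p) (two_ca hs hi)
  linear_combination lg p ζ (c 0) * e 0 (by norm_num) + lg p ζ (c 1) * e 1 (by norm_num) +
    lg p ζ (c 2) * e 2 (by norm_num) + lg p ζ (c 3) * e 3 (by norm_num)

theorem Lp_LL (c : Fin 4 → kˣ) {n : ℕ} (hn : n < 52) : Lp (LL p ζ c) n = lg p ζ (chiIdx c (ofPos n)) := by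
  unfold Lp ofPos
  by_cases h : n < 4
  · rw [if_pos h, dif_pos h]
    have := chiIdx_inl c (⟨n, h⟩ : Fin chevF4.rank)
    exact ((congrArg (lg p ζ) this).trans (lg_one hζ)).symm
  · rw [if_neg h, dif_neg h]
    have := chiIdx_inr c (⟨(n - 4) % 48, Nat.mod_lt _ (by decide)⟩ : Fin chevF4.nroots)
    have e : (n - 4) % 48 = n - 4 := Nat.mod_eq_of_lt (show n - 4 < 48 by omega)
    refine Eq.symm ((congrArg (lg p ζ) this).trans ?_)
    show lg p ζ (chi c ((n - 4) % 48)) = _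
    rw [e]
    rfl

theorem exists_fv [CharP k 2] (h2 : (2 : ZMod p) ≠ 0) {c : Fin 4 → kˣ} (hc : c ^ p = 1) (hc1 : c ≠ 1) :
    ∃ j, fv (LL p ζ c) j ≠ 0 := by
  by_contra hcon
  push Not at hcon
  have h27 : LL p ζ c 27 = 0 := hcon 0
  have h28 : LL p ζ c 28 = 0 := hcon 1
  have h29 : LL p ζ c 29 = 0 := hcon 2
  have h44 : LL p ζ c 44 = 0 := hcon 3
  have h : ∀ s < 48, chi c s = 1 := by
    intro s hs
    have h1 := lin_LL hζ hc s hs
    rw [h27, h28, h29, h44, mul_zero, mul_zero, mul_zero, mul_zero, add_zero, add_zero, add_zero] at h1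
    exact eq_one_of_lg hζ (chi_pow_eq_one hc s) ((mul_eq_zero.1 h1).resolve_left h2)
  exact hc1 (eq_one_of_chi (h 33 (by norm_num)) (h 27 (by norm_num)) (h 25 (by norm_num)) (h 24 (by norm_num)))

theorem LL_mul {c d : Fin 4 → kˣ} (hc : c ^ p = 1) (hd : d ^ p = 1) (s : ℕ) :
    LL p ζ (c * d) s = LL p ζ c s + LL p ζ d s := by
  unfold LL
  rw [chi_mul, lg_mul hζ (chi_pow_eq_one hc s) (chi_pow_eq_one hd s)]

/-- the relation for the long roots -/
theorem rel_long {c : Fin 4 → kˣ} (hc : c ^ p = 1) {n : ℕ}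
    (h : Finset.univ.val.map (fun i : Fin 26 => (chiIdx c (ro i) : k)) =
      Finset.univ.val.map fun i : Fin 26 => (chiIdx c (io i) : k) ^ n) :
    Finset.univ.val.map (fun i : Fin 26 => Lp (LL p ζ c) (nthN roN i.val)) =
      Finset.univ.val.map fun i : Fin 26 => (n : ZMod p) * Lp (LL p ζ c) (nthN ioN i.val) := by
  have h1 : Finset.univ.val.map (fun i : Fin 26 => chiIdx c (ro i)) =
      Finset.univ.val.map fun i : Fin 26 => chiIdx c (io i) ^ n := by
    apply Multiset.map_injective (f := (Units.val : kˣ → k)) Units.val_injective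
    rw [Multiset.map_map, Multiset.map_map]
    exact h
  have h2 := congrArg (Multiset.map (lg p ζ)) h1
  rw [Multiset.map_map, Multiset.map_map] at h2
  have hcp : ∀ j, chiIdx c j ^ p = 1 := by
    rintro (j | j)
    · rw [chiIdx_inl, one_pow]
    · rw [chiIdx_inr]
      exact chi_pow_eq_one hc _
  have e1 : (fun i : Fin 26 => Lp (LL p ζ c) (nthN roN i.val)) = lg p ζ ∘ fun i : Fin 26 => chiIdx c (ro i) := by
    funext i
    exact Lp_LL hζ c (roN_lt i)
  have e2 : (fun i : Fin 26 => (n : ZMod p) * Lp (LL p ζ c) (nthN ioN i.val)) =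
      lg p ζ ∘ fun i : Fin 26 => chiIdx c (io i) ^ n := by
    funext i
    rw [Lp_LL hζ c (ioN_lt i), Function.comp_apply, lg_npow hζ (hcp _)]
    rfl
  rw [e1, e2]
  exact h2

/-- the relation for the short roots -/
theorem rel_short {c : Fin 4 → kˣ} (hc : c ^ p = 1) {n : ℕ}
    (h : Finset.univ.val.map (fun i : Fin 26 => (chiIdx c (io i) : k)) =
      Finset.univ.val.map fun i : Fin 26 => (chiIdx c (io i) : k) ^ n) :
    Finset.univ.val.map (fun i : Fin 26 => Lp (LL p ζ c) (nthN ioN i.val)) =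
      Finset.univ.val.map fun i : Fin 26 => (n : ZMod p) * Lp (LL p ζ c) (nthN ioN i.val) := by
  have h1 : Finset.univ.val.map (fun i : Fin 26 => chiIdx c (io i)) =
      Finset.univ.val.map fun i : Fin 26 => chiIdx c (io i) ^ n := by
    apply Multiset.map_injective (f := (Units.val : kˣ → k)) Units.val_injective
    rw [Multiset.map_map, Multiset.map_map]
    exact h
  have h2 := congrArg (Multiset.map (lg p ζ)) h1
  rw [Multiset.map_map, Multiset.map_map] at h2
  have hcp : ∀ j, chiIdx c j ^ p = 1 := by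
    rintro (j | j)
    · rw [chiIdx_inl, one_pow]
    · rw [chiIdx_inr]
      exact chi_pow_eq_one hc _
  have e1 : (fun i : Fin 26 => Lp (LL p ζ c) (nthN ioN i.val)) = lg p ζ ∘ fun i : Fin 26 => chiIdx c (io i) := by
    funext i
    exact Lp_LL hζ c (ioN_lt i)
  have e2 : (fun i : Fin 26 => (n : ZMod p) * Lp (LL p ζ c) (nthN ioN i.val)) =
      lg p ζ ∘ fun i : Fin 26 => chiIdx c (io i) ^ n := by
    funext i
    rw [Lp_LL hζ c (ioN_lt i), Function.comp_apply, lg_npow hζ (hcp _)]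
    rfl
  rw [e2, ← h2, ← e1]

end Form

/-! ### the group -/

section Grp

open Cfsg.Agent.ChevalleyStructure.CoxeterGeomTypes Cfsg.Agent.KFacts.RgdChevCoord Cfsg.Agent.BpExc.TowChev
open Cfsg.Agent.Nodes.RGDChev

theorem isTypeF : IsType chevF4 4 CoxeterMatrix.F₄ := by simp

theorem cardWF : Nat.card (CoxeterMatrix.F₄).Group = 1152 :=
  Cfsg.Agent.S1092.result (⟨4, CoxeterMatrix.F₄⟩, 1152) (by simp)

theorem not_dvd_W {p : ℕ} (hp : p.Prime) (h5 : 5 ≤ p) : ¬ p ∣ Nat.card (CoxeterMatrix.F₄).Group := by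
  rw [cardWF, show (1152 : ℕ) = 2 ^ 7 * 3 ^ 2 by norm_num, hp.dvd_mul]
  rintro (h | h)
  · have := (Nat.prime_dvd_prime_iff_eq hp Nat.prime_two).1 (hp.dvd_of_dvd_pow h)
    omega
  · have := (Nat.prime_dvd_prime_iff_eq hp Nat.prime_three).1 (hp.dvd_of_dvd_pow h)
    omega

theorem twisted_le {K : Type*} [Field K] [CharP K 2] (e : ℕ) : Lie.twistedF4 K e ≤ chevF4.group K := by
  have hX : ∀ (r : ℕ) (t : K), (X r t : GL chevF4.Idx K) ∈ chevF4.group K := by
    intro r t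
    by_cases hr : r < chevF4.nroots
    · refine Subgroup.subset_closure ⟨⟨r, hr⟩, t, ?_⟩
      rw [coe_X]
      unfold ChevalleyDatum.x
      rw [dif_pos hr]
    · have : (X r t : GL chevF4.Idx K) = 1 := by
        apply Units.ext
        rw [coe_X, Units.val_one]
        unfold ChevalleyDatum.x
        rw [dif_neg hr]
      rw [this]
      exact one_mem _
  have hW : ∀ w : List (ℕ × K), (W w : GL chevF4.Idx K) ∈ chevF4.group K := by
    intro w
    induction w with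
    | nil => exact one_mem _
    | cons a w ih =>
      rw [W_cons]
      exact mul_mem (hX _ _) ih
  refine (Subgroup.closure_le _).2 ?_
  rintro g ⟨w, -, hg⟩
  have : g = W w := Units.ext (by rw [hg, coe_W])
  rw [this]
  exact hW w

theorem glF_mem_group {K k : Type*} [Field K] [Field k] (ι : K →+* k) {g : GL chevF4.Idx K}
    (hg : g ∈ chevF4.group K) : glF K k ι g ∈ chevF4.group k :=
  Cfsg.Agent.GpExc.Field.glMap_mem isTypeF.inList ι hg

variable {K : Type u} [Field K] [CharP K 2]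

/-- the embedding in `F₄(k)` -/
noncomputable def jj {k : Type*} [Field k] (ι : K →+* k) (e : ℕ) : ↥(Lie.twistedF4 K e) →* ↥(chevF4.group k) :=
  ((glF K k ι).comp (Lie.twistedF4 K e).subtype).codRestrict (chevF4.group k)
    fun g => glF_mem_group ι (twisted_le e g.2)

theorem coe_jj {k : Type*} [Field k] (ι : K →+* k) (e : ℕ) (g : ↥(Lie.twistedF4 K e)) :
    ((jj ι e g : ↥(chevF4.group k)) : GL chevF4.Idx k) = glF K k ι g := rfl

theorem jj_injective {k : Type*} [Field k] (ι : K →+* k) (e : ℕ) : Function.Injective (jj ι e) := by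
  intro a b hab
  exact Subtype.ext (glF_injective K k ι (congrArg Subtype.val hab))

theorem charP_closure : CharP (AlgebraicClosure K) 2 :=
  charP_of_injective_algebraMap (algebraMap K (AlgebraicClosure K)).injective 2

theorem locFin_closure [Finite K] : LocFin (AlgebraicClosure K) := by
  have h1 := charP_closure (K := K)
  have : Fact (Nat.Prime 2) := ⟨Nat.prime_two⟩
  let _ : Algebra (ZMod 2) K := ZMod.algebra K 2
  have h3 : Algebra.IsAlgebraic (ZMod 2) K := Algebra.IsAlgebraic.of_finite (ZMod 2) K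
  have h4 : Algebra.IsAlgebraic (ZMod 2) (AlgebraicClosure K) := Algebra.IsAlgebraic.trans (ZMod 2) K _
  exact locFin_of_isAlgebraic 2 _

theorem conj_map_mul {G Y : Type*} [Group G] [Group Y] (f : G →* Y) (y : Y) {P : Subgroup G} (a b : P) :
    y * f ((a * b : P) : G) * y⁻¹ = y * f a * y⁻¹ * (y * f b * y⁻¹) := by
  rw [Subgroup.coe_mul, map_mul]
  group

/-- **`p`-subgroups of `²F₄(q)` are toral, `p ≥ 5`.** -/
theorem exists_toral [Finite K] {p : ℕ} [hp : Fact p.Prime] (h5 : 5 ≤ p) (e : ℕ) {P : Subgroup ↥(Lie.twistedF4 K e)}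
    (hP : IsPGroup p P) : ∃ (y : ↥(chevF4.group (AlgebraicClosure K))) (cc : P →* (Fin 4 → (AlgebraicClosure K)ˣ)),
      ∀ x : P, ((y * jj (algebraMap K (AlgebraicClosure K)) e x * y⁻¹ : ↥(chevF4.group (AlgebraicClosure K))) :
        GL chevF4.Idx (AlgebraicClosure K)) = T (cc x) := by
  have h1 := charP_closure (K := K)
  have h2 := locFin_closure (K := K)
  have : Fact (Nat.Prime 2) := ⟨Nat.prime_two⟩
  have hfin : Finite ↥(Lie.twistedF4 K e) := by
    have : Finite (GL chevF4.Idx K) := inferInstance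
    infer_instance
  have hfin2 : Finite ↥(P.map (jj (algebraMap K (AlgebraicClosure K)) e)) := by
    refine Finite.of_surjective (fun x : P => (⟨jj (algebraMap K (AlgebraicClosure K)) e x,
      Subgroup.mem_map_of_mem _ x.2⟩ : P.map (jj (algebraMap K (AlgebraicClosure K)) e))) ?_
    rintro ⟨_, x, hx, rfl⟩
    exact ⟨⟨x, hx⟩, rfl⟩
  obtain ⟨y, hy⟩ := Cfsg.Agent.H795.TorSub.exists_toral_of_not_dvd isTypeF 2 h2 hp.out (by omega)
    (not_dvd_W hp.out h5) (Q := P.map (jj (algebraMap K (AlgebraicClosure K)) e)) (hP.map _)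
  have hT : ∀ x : P, ∃ c : Fin 4 → (AlgebraicClosure K)ˣ,
      ((y * jj (algebraMap K (AlgebraicClosure K)) e x * y⁻¹ : ↥(chevF4.group (AlgebraicClosure K))) :
        GL chevF4.Idx (AlgebraicClosure K)) = T c := by
    intro x
    have h3 := hy _ (Subgroup.mem_map_of_mem _ x.2)
    rw [Subgroup.mem_subgroupOf, diagonal_eq_range] at h3
    obtain ⟨c, hc⟩ := h3
    exact ⟨c, hc.symm⟩
  choose c hc using hT
  have hmul : ∀ a b : P, c (a * b) = c a * c b := by
    intro a b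
    apply T_injective
    rw [map_mul, ← hc, ← hc, ← hc, ← Subgroup.coe_mul]
    exact congrArg Subtype.val (conj_map_mul _ y a b)
  exact ⟨y, MonoidHom.mk' c hmul, hc⟩

end Grp

end Cfsg.Agent.H42.Tw
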