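import Mathlib
import Cfsg.Agent.H42.Tw.F4Main

/-!
# Toral subgroups of rank two of `²F₄(q)`, `p ∤ q - 1`

* `Dat.root_pair` : no root is trivial on two independent elements of order `p`;
* `not_cyclic_of_pair` : the pair lemma gives noncyclic `p`-subgroups.
-/

set_option autoImplicit false
set_option linter.unusedSectionVars false

namespace Cfsg.Agent.H42.Tw

open Cfsg Cfsg.Lie Cfsg.Lie.ChevalleyDatum Cfsg.Agent.ChevalleyStructure.TwF4.Torus

universe u

section

variable {K : Type u} [Field K] [Finite K] [CharP K 2] {m : ℕ} (hK : Nat.card K = 2 ^ (2 * m + 1))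
  {p : ℕ} [hp : Fact p.Prime] (h5 : 5 ≤ p) {P : Subgroup ↥(Lie.twistedF4 K (2 ^ m))} (d : Dat (2 ^ m) P)

include hK h5

/-- **No root is trivial on two independent elements of order `p`.** -/
theorem Dat.root_pair (hpq : ¬ p ∣ Nat.card K - 1) (hPc : ∀ a b : P, a * b = b * a) {x x' : P} (hx : x ^ p = 1)
    (hx1 : x ≠ 1) (hx' : x' ^ p = 1) (hind : x' ∉ Subgroup.zpowers x) {s : ℕ} (hs : s < 48) (h : chi (d.cc x) s = 1) :
    chi (d.cc x') s ≠ 1 := by
  intro h'
  obtain ⟨ζ, hζ⟩ := exists_root (K := K) h5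
  have h2 := two_ne' (p := p) h5
  have hcp := d.cc_pow hx
  have hcp' := d.cc_pow hx'
  have hpow : ∀ (a b : ℕ), (x ^ a * x' ^ b) ^ p = 1 := fun a b => by
    rw [(show Commute (x ^ a) (x' ^ b) from hPc _ _).mul_pow, ← pow_mul, ← pow_mul, mul_comm a, mul_comm b, pow_mul,
      pow_mul, hx, hx', one_pow, one_pow, one_mul]
  have hLab : ∀ (a b : ℕ) (s : ℕ), LL p ζ (d.cc (x ^ a * x' ^ b)) s =
      (a : ZMod p) * LL p ζ (d.cc x) s + (b : ZMod p) * LL p ζ (d.cc x') s := by
    intro a b s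
    rw [map_mul, map_pow, map_pow, LL_mul hζ (by rw [← pow_mul, mul_comm, pow_mul, hcp, one_pow])
      (by rw [← pow_mul, mul_comm, pow_mul, hcp', one_pow])]
    unfold LL
    rw [chi_npow, chi_npow, lg_npow hζ (chi_pow_eq_one hcp s), lg_npow hζ (chi_pow_eq_one hcp' s)]
  have hfab : ∀ (a b : ℕ) (j : Fin 4), fv (LL p ζ (d.cc (x ^ a * x' ^ b))) j =
      (a : ZMod p) * fv (LL p ζ (d.cc x)) j + (b : ZMod p) * fv (LL p ζ (d.cc x')) j := by
    intro a b j
    fin_cases j
    · exact hLab a b 27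
    · exact hLab a b 28
    · exact hLab a b 29
    · exact hLab a b 44
  have hiso : ∀ z : P, z ^ p = 1 → fv (LL p ζ (d.cc z)) ⬝ᵥ fv (LL p ζ (d.cc z)) = 0 := by
    intro z hz
    rw [← d.isotropic hK h5 hζ hpq hz, dotProduct]
    exact Finset.sum_congr rfl fun j _ => (pow_two _).symm
  refine no_root_pair h2 (lin_LL hζ hcp) (lin_LL hζ hcp') ?_ (hiso x hx) ?_ (hiso x' hx') hs
    (by unfold LL; rw [h, lg_one hζ]) (by unfold LL; rw [h', lg_one hζ])
  · rw [LinearIndependent.pair_iff]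
    intro a b hab
    have h3 : x ^ a.val * x' ^ b.val = 1 := by
      by_contra hne
      obtain ⟨j, hj⟩ := d.exists_fv hK h5 hζ (hpow a.val b.val) hne
      apply hj
      rw [hfab, ZMod.natCast_val, ZMod.natCast_val, ZMod.cast_id, ZMod.cast_id]
      have := congrFun hab j
      simpa using this
    have h4 : b = 0 := by
      by_contra hb
      apply hind
      have h5' : x' ^ b.val ∈ Subgroup.zpowers x := by
        rw [eq_inv_of_mul_eq_one_right h3]
        exact inv_mem (pow_mem (Subgroup.mem_zpowers x) _)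
      have hbv : b.val ≠ 0 := fun h0 => hb ((ZMod.val_eq_zero b).1 h0)
      have hcop : Nat.gcd p b.val = 1 := (Nat.Prime.coprime_iff_not_dvd hp.out).2 fun hd =>
        absurd (Nat.le_of_dvd (Nat.pos_of_ne_zero hbv) hd) (not_le.2 (ZMod.val_lt b))
      have h6 : x' ^ Nat.gcd p b.val ∈ Subgroup.zpowers x := by
        rw [← zpow_natCast, Nat.gcd_eq_gcd_ab, zpow_add, zpow_mul, zpow_mul, zpow_natCast, zpow_natCast, hx', one_zpow,
          one_mul]
        exact zpow_mem h5' _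
      rwa [hcop, pow_one] at h6
    refine ⟨?_, h4⟩
    rw [h4, ZMod.val_zero, pow_zero, mul_one] at h3
    have h7 : orderOf x = p := orderOf_eq_prime hx hx1
    have h8 := orderOf_dvd_of_pow_eq_one h3
    rw [h7] at h8
    rw [← ZMod.natCast_zmod_val a, ZMod.natCast_eq_zero_iff]
    exact h8
  · have h3 := hiso (x ^ 1 * x' ^ 1) (hpow 1 1)
    have h4 : fv (LL p ζ (d.cc (x ^ 1 * x' ^ 1))) = fv (LL p ζ (d.cc x)) + fv (LL p ζ (d.cc x')) := by
      funext j
      rw [hfab, Nat.cast_one, one_mul, one_mul, Pi.add_apply]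
    rw [h4, add_dotProduct, dotProduct_add, dotProduct_add, hiso x hx, hiso x' hx', zero_add, add_zero,
      dotProduct_comm (fv (LL p ζ (d.cc x'))), ← two_mul] at h3
    exact (mul_eq_zero.1 h3).resolve_left h2

end

section

open Subgroup Cfsg.Agent.H795

variable {G : Type u} [Group G]

theorem exists_pair_of_noncyclic [Finite G] {p : ℕ} [hp : Fact p.Prime] (hp2 : p ≠ 2) {P : Subgroup G}
    (hP : IsPGroup p P) (hnc : ¬ IsCyclic P) : ∃ x x' : P, x ^ p = 1 ∧ x ≠ 1 ∧ x' ^ p = 1 ∧ x' ∉ zpowers x := by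
  obtain ⟨A, -, hA, hc⟩ := Cfsg.Agent.S0126.result hp2 hP hnc
  have hA1 : A ≠ ⊥ := by
    rintro rfl
    rw [card_bot] at hc
    exact (Nat.one_lt_pow two_ne_zero hp.out.one_lt).ne hc
  obtain ⟨x, hx, hx1⟩ := (A.bot_or_exists_ne_one).resolve_left hA1
  have hlt : zpowers x < A := by
    refine lt_of_le_of_ne (zpowers_le.2 hx) fun h => ?_
    have h1 : Nat.card (zpowers x) = p := by
      rw [Nat.card_zpowers]
      exact orderOf_eq_prime (hA.2 x hx) hx1
    rw [h, hc, pow_two] at h1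
    have : 1 < p := hp.out.one_lt
    nlinarith
  obtain ⟨x', hx', hx'1⟩ := SetLike.exists_of_lt hlt
  exact ⟨x, x', hA.2 x hx, hx1, hA.2 x' hx', hx'1⟩

theorem not_cyclic_of_pair [Finite G] {p : ℕ} [hp : Fact p.Prime] (L M : Subgroup G) (s : G)
    (hcomm : ∀ l ∈ L, ∀ m ∈ M, l * m = m * l) (hs1 : ∀ l ∈ L, s * l * s⁻¹ ∈ M)
    (hcyc : ∀ P : Subgroup G, P ≤ L → IsPGroup p P → IsCyclic P)
    (hq : ∀ K : Subgroup L, K.Normal → (∀ g : L, ∃ k : ℕ, g ^ p ^ k ∈ K) → K = ⊤)
    (hdvd : p ∣ Nat.card L) : ∃ Q : Subgroup G, IsPGroup p Q ∧ ¬ IsCyclic Q := by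
  classical
  obtain ⟨P⟩ : Nonempty (Sylow p L) := inferInstance
  set PL : Subgroup G := (P : Subgroup L).map L.subtype with hPL
  have hPLL : PL ≤ L := map_subtype_le _
  have hPLp : IsPGroup p PL := P.2.map _
  have hPLc : IsCyclic PL := hcyc PL hPLL hPLp
  have hbot : (P : Subgroup L) ≠ ⊥ := P.ne_bot_of_dvd_card hdvd
  have hPcomm : IsMulCommutative (P : Subgroup L) := by
    have : IsMulCommutative PL := IsCyclic.isMulCommutative
    exact isMulCommutative_of fun a ha b hb => Subtype.ext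
      (comm_of this (mem_map_of_mem L.subtype ha) (mem_map_of_mem L.subtype hb))
  obtain ⟨c, hc, z, hz, hzp, hcz⟩ := exists_moving P hPcomm hbot hq
  have hmove : ∀ x ∈ PL, x ^ p = 1 → (c : G) * x * (c : G)⁻¹ = x → x = 1 := by
    intro x hx hxp hcx
    by_contra hx1
    apply hcz
    apply Subtype.ext
    have h1 : (z : G) ∈ centralizer {(c : G)} := by
      refine mem_of_pow hPLc hx hxp hx1 (mem_map_of_mem L.subtype hz) (congrArg Subtype.val hzp) ?_
      rw [mem_centralizer_singleton_iff]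
      exact (mul_inv_eq_iff_eq_mul.1 hcx).symm
    rw [mem_centralizer_singleton_iff] at h1
    change (c : G) * z * (c : G)⁻¹ = z
    rw [← h1, mul_inv_cancel_right]
  have hzG : (z : G) ^ p = 1 := congrArg Subtype.val hzp
  have hz1 : (z : G) ≠ 1 := by
    intro h
    apply hcz
    have : z = 1 := Subtype.ext h
    rw [this]
    group
  have hzPL : (z : G) ∈ PL := mem_map_of_mem L.subtype hz
  obtain ⟨z', hz'⟩ : ∃ z', z' = s * (z : G) * s⁻¹ := ⟨_, rfl⟩
  have hz'M : z' ∈ M := by rw [hz']; exact hs1 _ z.2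
  have hz'p : z' ^ p = 1 := by rw [hz', conj_pow, hzG]; group
  have hzz' : (z : G) * z' = z' * z := hcomm _ z.2 _ hz'M
  have hz'n : z' ∉ zpowers (z : G) := by
    intro h
    have h1 : z' ∈ PL := (zpowers_le.2 hzPL) h
    have h2 := hmove z' h1 hz'p (by rw [hcomm c c.2 _ hz'M, mul_inv_cancel_right])
    rw [hz', conj_eq_one_iff] at h2
    exact hz1 h2
  have hQ : IsPGroup p (zpowers z' ⊔ zpowers (z : G) : Subgroup G) := by
    refine IsPGroup.to_sup_of_normal_right' (isPGroup_zpowers hz'p) (isPGroup_zpowers hzG) ?_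
    rw [zpowers_le]
    have h3 : ∀ w ∈ zpowers (z : G), z' * w = w * z' := by
      intro w hw
      obtain ⟨n, rfl⟩ := mem_zpowers_iff.1 hw
      exact ((show Commute (z : G) z' from hzz').zpow_left n).symm
    refine mem_normalizer_of' (fun w hw => ?_) (fun w hw => ?_)
    · rw [h3 w hw, mul_inv_cancel_right]
      exact hw
    · rw [mul_assoc, ← h3 w hw, inv_mul_cancel_left]
      exact hw
  refine ⟨_, hQ, fun hcy => hz'n ?_⟩
  exact mem_of_pow hcy (mem_sup_right (mem_zpowers _)) hzG hz1 (mem_sup_left (mem_zpowers _)) hz'p (mem_zpowers _)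

/-- a noncyclic `p`-subgroup makes the Sylow subgroups noncyclic -/
theorem not_cyclic_sylow [Finite G] {p : ℕ} [hp : Fact p.Prime] {Q : Subgroup G} (hQ : IsPGroup p Q)
    (hnc : ¬ IsCyclic Q) (S : Sylow p G) : ¬ IsCyclic (S : Subgroup G) := by
  intro hS
  apply hnc
  obtain ⟨R, hR⟩ := hQ.exists_le_sylow
  have h1 : IsCyclic (R : Subgroup G) := (MulEquiv.isCyclic (Sylow.equiv R S)).2 hS
  exact isCyclic_of_injective (inclusion hR) (inclusion_injective hR)

end

end Cfsg.Agent.H42.Tw
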