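import Mathlib
import Cfsg.Agent.H42.Tw.F4Rank
import Cfsg.Agent.H42.Tw.AbF4Tor
import Cfsg.Agent.H795.Roots
import Cfsg.Agent.KFacts.TwF4.Inst

/-!
# The rows `AbIrr p`, `NormOm p` for `²F₄(q)`

* `abIrr_twF4`, `normOm_twF4` : `p` odd;
* `abelian_twF4` : the Sylow `p`-subgroups are abelian for `p ≥ 5`;
* `cyclic_twF4` : they are cyclic for `p ≥ 5`, `p ∣ q² - q + 1` or `p ∣ q⁴ - q² + 1`.
-/

set_option autoImplicit false
set_option linter.unusedSectionVars false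

namespace Cfsg.Agent.H42.Tw

open Cfsg Cfsg.Lie Cfsg.Lie.ChevalleyDatum Cfsg.Agent.ChevalleyStructure.TwF4.Torus
open Cfsg.Agent.ChevalleyStructure.TwF4.TwistedFix Cfsg.Agent.ChevalleyStructure.F4NTab
open Cfsg.Agent.H795

universe u

/-! ### one Sylow subgroup is enough -/

section

open Subgroup

variable {G : Type u} [Group G]

theorem normOm_of_one [Finite G] {p : ℕ} [Fact p.Prime] (S : Sylow p G)
    (h : IsMulCommutative (S : Subgroup G) → ∀ c : G, (∀ x ∈ (S : Subgroup G), x ^ p = 1 → c * x * c⁻¹ = x) →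
      c ∈ normalizer ((S : Subgroup G) : Set G)) : NormOm p G := by
  intro S' hS' c' hc'
  obtain ⟨g, hg⟩ := MulAction.exists_smul_eq G S S'
  have hmem : ∀ x : G, x ∈ (S : Subgroup G) ↔ g * x * g⁻¹ ∈ (S' : Subgroup G) := by
    intro x
    rw [← hg, Sylow.coe_subgroup_smul]
    constructor
    · intro hx
      exact Subgroup.smul_mem_pointwise_smul x (MulAut.conj g) (S : Subgroup G) hx
    · intro hx
      rw [Subgroup.mem_pointwise_smul_iff_inv_smul_mem, ← map_inv, MulAut.smul_def, MulAut.conj_apply, inv_inv] at hx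
      have e : g⁻¹ * (g * x * g⁻¹) * g = x := by group
      rwa [e] at hx
  have hS : IsMulCommutative (S : Subgroup G) := isMulCommutative_of fun a ha b hb => by
    have h1 := comm_of hS' ((hmem a).1 ha) ((hmem b).1 hb)
    have e1 : g * a * g⁻¹ * (g * b * g⁻¹) = g * (a * b) * g⁻¹ := by group
    have e2 : g * b * g⁻¹ * (g * a * g⁻¹) = g * (b * a) * g⁻¹ := by group
    rw [e1, e2] at h1
    exact mul_left_cancel (mul_right_cancel h1)
  have h1 := h hS (g⁻¹ * c' * g) (fun x hx hxp => by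
    have h2 := hc' _ ((hmem x).1 hx) (by rw [conj_pow, hxp]; group)
    have e : g⁻¹ * c' * g * x * (g⁻¹ * c' * g)⁻¹ = g⁻¹ * (c' * (g * x * g⁻¹) * c'⁻¹) * g := by group
    rw [e, h2]
    group)
  rw [mem_normalizer_iff] at h1 ⊢
  intro y
  have h2 := h1 (g⁻¹ * y * g)
  rw [hmem, hmem] at h2
  have e1 : g * (g⁻¹ * y * g) * g⁻¹ = y := by group
  have e2 : g * (g⁻¹ * c' * g * (g⁻¹ * y * g) * (g⁻¹ * c' * g)⁻¹) * g⁻¹ = c' * y * c'⁻¹ := by group
  rwa [e1, e2] at h2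

theorem normOm_of_nonabelian {p : ℕ} (h : ∀ S : Sylow p G, ¬ IsMulCommutative (S : Subgroup G)) : NormOm p G :=
  fun S hS => absurd hS (h S)

end

section

variable {K : Type u} [Field K] [Finite K] [CharP K 2] {m : ℕ} {p : ℕ} [hp : Fact p.Prime] (h5 : 5 ≤ p)

include h5

/-- `NormOm` from the torality data -/
theorem normOm_of_dat (S : Sylow p ↥(Lie.twistedF4 K (2 ^ m))) (d : Dat (2 ^ m) (S : Subgroup ↥(Lie.twistedF4 K (2 ^ m))))
    (hroot : ∀ s < 48, ∃ x : (S : Subgroup ↥(Lie.twistedF4 K (2 ^ m))), x ^ p = 1 ∧ chi (d.cc x) s ≠ 1) :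
    NormOm p ↥(Lie.twistedF4 K (2 ^ m)) := by
  have hfin := finite_tw (K := K) (2 ^ m)
  refine normOm_of_one S fun _ c hc => ?_
  have h1 : ∀ x : (S : Subgroup ↥(Lie.twistedF4 K (2 ^ m))), c * x = x * c := by
    intro x
    refine d.comm_of h5 hroot (fun x hx => ?_) x
    have h2 := hc x x.2 (congrArg Subtype.val hx)
    exact mul_inv_eq_iff_eq_mul.1 h2
  refine mem_normalizer_of' (fun x hx => ?_) (fun x hx => ?_)
  · rw [h1 ⟨x, hx⟩, mul_inv_cancel_right]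
    exact hx
  · rw [mul_assoc, ← h1 ⟨x, hx⟩, inv_mul_cancel_left]
    exact hx

/-- **The Sylow `p`-subgroups of `²F₄(q)` are abelian, `p ≥ 5`.** -/
theorem abelian_twF4 {P : Subgroup ↥(Lie.twistedF4 K (2 ^ m))} (hP : IsPGroup p P) : IsMulCommutative P := by
  obtain ⟨y, cc, hcc⟩ := exists_toral (K := K) h5 (2 ^ m) hP
  have hinj := (Dat.mk y cc hcc).cc_injective
  refine isMulCommutative_of fun a ha b hb => ?_
  have h1 : (⟨a, ha⟩ : P) * ⟨b, hb⟩ = ⟨b, hb⟩ * ⟨a, ha⟩ := hinj (by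
    change cc _ = cc _
    rw [map_mul, map_mul, mul_comm])
  exact congrArg Subtype.val h1

end

/-! ### `p ∣ q - 1` -/

section

open Cfsg.Agent.TitsThree.RankTwoZ Cfsg.Agent.ChevalleyStructure.TwF4.TwGen Subgroup

theorem chi_map {K k : Type*} [Field K] [Field k] (ι : K →+* k) (c : Fin 4 → Kˣ) (s : ℕ) :
    chi (fun i => Units.map (ι : K →* k) (c i)) s = Units.map (ι : K →* k) (chi c s) := by
  simp only [chi_def, map_mul, map_zpow]

theorem glF_T {K k : Type*} [Field K] [Field k] (ι : K →+* k) (c : Fin 4 → Kˣ) :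
    glF K k ι (T c) = T fun i => Units.map (ι : K →* k) (c i) := by
  apply Units.ext
  rw [coe_glF, coe_T, coe_T, Matrix.diagonal_map (map_zero ι)]
  congr 1
  funext j
  rcases j with j | j
  · rw [chiIdx_inl, chiIdx_inl, Units.val_one, Units.val_one, map_one]
  · rw [chiIdx_inr, chiIdx_inr, chi_map]
    rfl

/-- the table for `p ∣ q - 1` -/
theorem tab_minus : ((List.range 48).all fun s =>
    decide ((ca 1 s) ^ 2 - 2 * (ca 2 s) ^ 2 ∣ 8) || decide ((ca 0 s) ^ 2 - 2 * (ca 3 s) ^ 2 ∣ 8)) = true := by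
  decide +kernel

theorem minus_aux {F : Type*} [Field F] (h2 : (2 : F) ≠ 0) {a b : ℤ} (hd : a ^ 2 - 2 * b ^ 2 ∣ 8) {e : F}
    (he : 2 * e * e = 1) (h : e * (a : F) + (b : F) = 0) : False := by
  have h1 : ((a : F)) ^ 2 - 2 * (b : F) ^ 2 = 0 := by
    have hb : (b : F) = -(e * a) := by linear_combination h
    rw [hb]
    linear_combination -(a : F) ^ 2 * he
  obtain ⟨c, hc⟩ := hd
  have h3 : ((8 : ℤ) : F) = 0 := by
    rw [hc]
    push_cast
    rw [h1, zero_mul]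
  apply pow_ne_zero 3 h2
  rw [← h3]
  push_cast
  norm_num

variable {K : Type u} [Field K] [Fintype K] [CharP K 2] {m : ℕ} (hK : Fintype.card K = 2 ^ (2 * m + 1)) {φ : K →+* K}
  (hφ : Rln φ (2 ^ m)) {p : ℕ} [hp : Fact p.Prime] (h5 : 5 ≤ p)

include hK hφ h5

theorem normOm_minus (hpq : p ∣ Nat.card K - 1) : NormOm p ↥(Lie.twistedF4 K (2 ^ m)) := by
  classical
  have hfin := finite_tw (K := K) (2 ^ m)
  have hq : Nat.card K = 2 ^ (2 * m + 1) := by rw [Nat.card_eq_fintype_card, hK]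
  have hq2 : 2 ≤ Nat.card K := by
    rw [hq]
    calc 2 = 2 ^ 1 := rfl
      _ ≤ 2 ^ (2 * m + 1) := Nat.pow_le_pow_right (by norm_num) (by omega)
  set S := Cfsg.Agent.KFacts.TwF4.Inst.full hK hφ with hS
  obtain ⟨hidx, -⟩ := Cfsg.Agent.PreUniq.LowExc.TwF4.torus_of_dvd S hp.out (by omega) rfl hq2
    (by rw [hq]; exact Cfsg.Agent.S1068.result hK) hpq
  obtain ⟨D, hD⟩ := exists_sylow_le hidx
  have hTc : ∀ a ∈ S.T, ∀ b ∈ S.T, a * b = b * a := by
    intro a ha b hb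
    obtain ⟨c, d, rfl⟩ := S.mem_T.1 ha
    obtain ⟨c', d', rfl⟩ := S.mem_T.1 hb
    rw [S.h_mul, S.h_mul, mul_comm c, mul_comm d]
  -- the torality data
  have h1 := charP_closure (K := K)
  have hT : ∀ x : (D : Subgroup ↥(Lie.twistedF4 K (2 ^ m))), ∃ c : Fin 4 → Kˣ, (x : GL chevF4.Idx K) = T c := by
    intro x
    have h2 := Cfsg.Agent.KFacts.TwF4.Inst.torus_diag hφ (hD x.2)
    rw [diagonal_eq_range] at h2
    obtain ⟨c, hc⟩ := h2
    exact ⟨c, hc.symm⟩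
  choose c hc using hT
  have hmul : ∀ a b : (D : Subgroup ↥(Lie.twistedF4 K (2 ^ m))), c (a * b) = c a * c b := by
    intro a b
    apply T_injective
    rw [map_mul, ← hc, ← hc, ← hc]
    rfl
  set ι := algebraMap K (AlgebraicClosure K) with hι
  let cc : (D : Subgroup ↥(Lie.twistedF4 K (2 ^ m))) →* (Fin 4 → (AlgebraicClosure K)ˣ) :=
    MonoidHom.mk' (fun x i => Units.map (ι : K →* AlgebraicClosure K) (c x i)) fun a b => by
      funext i
      rw [hmul, Pi.mul_apply, Pi.mul_apply, map_mul]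
  let d : Dat (2 ^ m) (D : Subgroup ↥(Lie.twistedF4 K (2 ^ m))) :=
    { y := 1
      cc := cc
      eq := fun x => by
        rw [one_mul, inv_one, mul_one, coe_jj, hc x, glF_T]
        rfl }
  refine normOm_of_dat h5 D d fun s hs => ?_
  -- elements of order `p`
  have hcardU : p ∣ Nat.card Kˣ := by rw [Nat.card_units]; exact hpq
  obtain ⟨a, ha⟩ := exists_prime_orderOf_dvd_card' (G := Kˣ) p hcardU
  have hap : a ^ p = 1 := by rw [← ha]; exact pow_orderOf_eq_one a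
  have he1 : (2 : ZMod p) * ((2 ^ m : ℕ) : ZMod p) * ((2 ^ m : ℕ) : ZMod p) = 1 := by
    have h3 : ((Nat.card K - 1 : ℕ) : ZMod p) = 0 := (ZMod.natCast_eq_zero_iff _ _).2 hpq
    rw [Nat.cast_sub (by omega), Nat.cast_one, sub_eq_zero, hq] at h3
    rw [← h3]
    push_cast
    ring
  have key : ∀ u v : Kˣ, u ^ p = 1 → v ^ p = 1 → ∃ x : (D : Subgroup ↥(Lie.twistedF4 K (2 ^ m))), x ^ p = 1 ∧
      d.cc x = fun i => Units.map (ι : K →* AlgebraicClosure K) (tc (2 ^ m) u v i) := by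
    intro u v hu hv
    have h3 : T (tc (2 ^ m) u v) ∈ Lie.twistedF4 K (2 ^ m) :=
      T_tc_mem hφ.pos.ne' (Cfsg.Agent.KFacts.TwF4.Inst.pow_e hφ) u v
    have h4 : (⟨T (tc (2 ^ m) u v), h3⟩ : ↥(Lie.twistedF4 K (2 ^ m))) ∈ S.T :=
      Cfsg.Agent.KFacts.TwF4.Inst.torus_ge (by rw [diagonal_eq_range]; exact ⟨_, rfl⟩)
    have h6 : tc (2 ^ m) u v ^ p = 1 := by
      funext i
      fin_cases i
      · change (v ^ 2 ^ m) ^ p = 1
        rw [← pow_mul, mul_comm, pow_mul, hv, one_pow]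
      · change (u ^ 2 ^ m) ^ p = 1
        rw [← pow_mul, mul_comm, pow_mul, hu, one_pow]
      · exact hu
      · exact hv
    have h7 : (⟨T (tc (2 ^ m) u v), h3⟩ : ↥(Lie.twistedF4 K (2 ^ m))) ^ p = 1 := by
      apply Subtype.ext
      change (T (tc (2 ^ m) u v)) ^ p = 1
      rw [← map_pow, h6, map_one]
    have h8 := mem_sylow_of_pow hTc D hD h4 (k := 1) (by rw [pow_one]; exact h7)
    refine ⟨⟨_, h8⟩, Subtype.ext h7, ?_⟩
    have h9 : c ⟨_, h8⟩ = tc (2 ^ m) u v := T_injective (hc _).symm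
    change (fun i => Units.map (ι : K →* AlgebraicClosure K) (c ⟨_, h8⟩ i)) = _
    rw [h9]
  have hinj : Function.Injective (Units.map (ι : K →* AlgebraicClosure K)) := Units.map_injective ι.injective
  have hlg : ∀ z : ℤ, a ^ z = 1 → ((z : ℤ) : ZMod p) = 0 := by
    intro z hz
    rw [ZMod.intCast_zmod_eq_zero_iff_dvd, ← ha]
    exact orderOf_dvd_iff_zpow_eq_one.2 hz
  have h10 := List.all_eq_true.1 tab_minus s (List.mem_range.2 hs)
  rw [Bool.or_eq_true, decide_eq_true_eq, decide_eq_true_eq] at h10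
  rcases h10 with h10 | h10
  · obtain ⟨x, hx, hxc⟩ := key a 1 hap (one_pow p)
    refine ⟨x, hx, fun h => ?_⟩
    rw [hxc, chi_map] at h
    have h11 : chi (tc (2 ^ m) a 1) s = 1 := hinj (h.trans (map_one _).symm)
    rw [chi_def] at h11
    have e0 : tc (2 ^ m) a (1 : Kˣ) 0 = 1 := one_pow _
    have e1 : tc (2 ^ m) a (1 : Kˣ) 1 = a ^ 2 ^ m := rfl
    have e2 : tc (2 ^ m) a (1 : Kˣ) 2 = a := rfl
    have e3 : tc (2 ^ m) a (1 : Kˣ) 3 = 1 := rfl
    rw [e0, e1, e2, e3, one_zpow, one_zpow, one_mul, mul_one, ← zpow_natCast, ← zpow_mul, ← zpow_add] at h11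
    have h12 := hlg _ h11
    refine minus_aux (two_ne' h5) h10 he1 ?_
    rw [← h12]
    push_cast
    ring
  · obtain ⟨x, hx, hxc⟩ := key 1 a (one_pow p) hap
    refine ⟨x, hx, fun h => ?_⟩
    rw [hxc, chi_map] at h
    have h11 : chi (tc (2 ^ m) 1 a) s = 1 := hinj (h.trans (map_one _).symm)
    rw [chi_def] at h11
    have e0 : tc (2 ^ m) (1 : Kˣ) a 0 = a ^ 2 ^ m := rfl
    have e1 : tc (2 ^ m) (1 : Kˣ) a 1 = 1 := one_pow _
    have e2 : tc (2 ^ m) (1 : Kˣ) a 2 = 1 := rfl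
    have e3 : tc (2 ^ m) (1 : Kˣ) a 3 = a := rfl
    rw [e0, e1, e2, e3, one_zpow, one_zpow, mul_one, mul_one, ← zpow_natCast, ← zpow_mul, ← zpow_add] at h11
    have h12 := hlg _ h11
    refine minus_aux (two_ne' h5) h10 he1 ?_
    rw [← h12]
    push_cast
    ring

end

/-! ### the rows -/

section

open Subgroup

/-- the cases -/
theorem cases_ord {q p : ℕ} [hp : Fact p.Prime] (hq2 : 2 ≤ q) (hpq : ¬ p ∣ q) (hd : p ∣ ord q) :
    p ∣ q - 1 ∨ p ∣ q + 1 ∨ p ∣ q ^ 2 + 1 ∨ ((q : ZMod p) ^ 2 - q + 1 = 0) ∨ ((q : ZMod p) ^ 4 - (q : ZMod p) ^ 2 + 1 = 0) := by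
  have h1 : ((ord q : ℕ) : ZMod p) = 0 := (ZMod.natCast_eq_zero_iff _ _).2 hd
  have hq0 : ((q : ℕ) : ZMod p) ≠ 0 := fun h => hpq ((ZMod.natCast_eq_zero_iff _ _).1 h)
  have e4 : 1 ≤ q ^ 4 := Nat.one_le_pow _ _ (by omega)
  have c4 : ((q ^ 4 - 1 : ℕ) : ZMod p) = (q : ZMod p) ^ 4 - 1 := by rw [Nat.cast_sub e4]; push_cast; ring
  have c1 : ((q - 1 : ℕ) : ZMod p) = (q : ZMod p) - 1 := by rw [Nat.cast_sub (by omega)]; push_cast; ring
  unfold ord at h1
  rw [Nat.cast_mul, Nat.cast_mul, Nat.cast_mul, Nat.cast_mul, c4, c1] at h1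
  push_cast at h1
  set x : ZMod p := (q : ZMod p) with hx
  have h2 : x ^ 12 * ((x - 1) ^ 2 * ((x + 1) ^ 2 * ((x ^ 2 + 1) ^ 2 * ((x ^ 2 - x + 1) * (x ^ 4 - x ^ 2 + 1))))) = 0 := by
    rw [← h1]; ring
  rcases mul_eq_zero.1 h2 with h | h
  · exact absurd h (pow_ne_zero 12 hq0)
  rcases mul_eq_zero.1 h with h | h
  · left
    rw [← ZMod.natCast_eq_zero_iff, c1]
    exact pow_eq_zero_iff two_ne_zero |>.1 h
  rcases mul_eq_zero.1 h with h | h
  · right; left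
    rw [← ZMod.natCast_eq_zero_iff]
    push_cast
    exact pow_eq_zero_iff two_ne_zero |>.1 h
  rcases mul_eq_zero.1 h with h | h
  · right; right; left
    rw [← ZMod.natCast_eq_zero_iff]
    push_cast
    exact pow_eq_zero_iff two_ne_zero |>.1 h
  rcases mul_eq_zero.1 h with h | h
  · right; right; right; left; exact h
  · right; right; right; right; exact h

theorem sub_one_of_prim {q p n : ℕ} [hp : Fact p.Prime] (hq : 1 ≤ q) (h : IsPrimitiveRoot (q : ZMod p) n) (hn : 1 < n) :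
    ¬ p ∣ q - 1 := by
  intro h1
  have h2 : ((q - 1 : ℕ) : ZMod p) = 0 := (ZMod.natCast_eq_zero_iff _ _).2 h1
  rw [Nat.cast_sub hq, Nat.cast_one, sub_eq_zero] at h2
  rw [h2] at h
  have := h.eq_orderOf
  rw [orderOf_one] at this
  omega

variable {K : Type u} [Field K] [Fintype K] {m : ℕ} (hm : 1 ≤ m) (hK : Fintype.card K = 2 ^ (2 * m + 1))
  {p : ℕ} [hp : Fact p.Prime]

include hK

/-- **The Sylow `p`-subgroups of `²F₄(q)` are cyclic if `p ∣ q² - q + 1` or `p ∣ q⁴ - q² + 1`, `p ≥ 5`.** -/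
theorem cyclic_twF4' (h5 : 5 ≤ p) (h : (((2 ^ (2 * m + 1) : ℕ) : ZMod p) ^ 2 - ((2 ^ (2 * m + 1) : ℕ) : ZMod p) + 1 = 0) ∨
    (((2 ^ (2 * m + 1) : ℕ) : ZMod p) ^ 4 - ((2 ^ (2 * m + 1) : ℕ) : ZMod p) ^ 2 + 1 = 0))
    {P : Subgroup ↥(Lie.twistedF4 K (2 ^ m))} (hP : IsPGroup p P) : IsCyclic P := by
  have := Cfsg.Agent.ChevalleyStructure.TwF4.Twisted.charP_two hK
  have hq : Nat.card K = 2 ^ (2 * m + 1) := by rw [Nat.card_eq_fintype_card, hK]
  have h1 : 1 ≤ 2 ^ (2 * m + 1) := Nat.one_le_two_pow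
  rcases h with h | h
  · have h2 := prim_six (two_ne' h5) (three_ne' h5) h
    exact isCyclic_of_prim hq h5 (by rw [hq]; exact sub_one_of_prim h1 h2 (by norm_num)) h2 (by norm_num) (by norm_num) hP
  · have h2 := prim_twelve (two_ne' h5) (three_ne' h5) h
    exact isCyclic_of_prim hq h5 (by rw [hq]; exact sub_one_of_prim h1 h2 (by norm_num)) h2 (by norm_num) (by norm_num) hP

/-- the same, with divisibility in `ℕ` -/
theorem cyclic_twF4 (h5 : 5 ≤ p) (h : p ∣ (2 ^ (2 * m + 1)) ^ 2 - 2 ^ (2 * m + 1) + 1 ∨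
    p ∣ (2 ^ (2 * m + 1)) ^ 4 - (2 ^ (2 * m + 1)) ^ 2 + 1)
    {P : Subgroup ↥(Lie.twistedF4 K (2 ^ m))} (hP : IsPGroup p P) : IsCyclic P := by
  have h1 : 1 ≤ 2 ^ (2 * m + 1) := Nat.one_le_two_pow
  refine cyclic_twF4' hK h5 ?_ hP
  generalize 2 ^ (2 * m + 1) = q at h h1
  rcases h with h | h
  · left
    have h2 := (ZMod.natCast_eq_zero_iff _ _).2 h
    have h3 : q ≤ q ^ 2 := Nat.le_self_pow two_ne_zero q
    rw [Nat.cast_add, Nat.cast_sub h3] at h2
    push_cast at h2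
    exact h2
  · right
    have h2 := (ZMod.natCast_eq_zero_iff _ _).2 h
    have h3 : q ^ 2 ≤ q ^ 4 := Nat.pow_le_pow_right h1 (by norm_num)
    rw [Nat.cast_add, Nat.cast_sub h3] at h2
    push_cast at h2
    exact h2

include hm

theorem exists_unit : ∃ c : Kˣ, c ≠ 1 := by
  classical
  have h8 : 2 < Fintype.card K := by
    rw [hK]
    calc 2 < 2 ^ 3 := by norm_num
      _ ≤ 2 ^ (2 * m + 1) := Nat.pow_le_pow_right (by norm_num) (by omega)
  have h1 : Nat.card Kˣ = Nat.card K - 1 := Nat.card_units K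
  rw [Nat.card_eq_fintype_card (α := K)] at h1
  have h2 : 1 < Nat.card Kˣ := by omega
  have : Nontrivial Kˣ := Finite.one_lt_card_iff_nontrivial.1 h2
  exact exists_ne 1

/-- **`AbIrr p` for `²F₄(q)`, `p` odd.** -/
theorem abIrr_tw (hp2 : p ≠ 2) : AbIrr p ↥(Lie.twistedF4 K (2 ^ m)) := by
  have hch := Cfsg.Agent.ChevalleyStructure.TwF4.Twisted.charP_two hK
  have hfin := finite_tw (K := K) (2 ^ m)
  have hq : Nat.card K = 2 ^ (2 * m + 1) := by rw [Nat.card_eq_fintype_card, hK]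
  have hq2 : 2 ≤ 2 ^ (2 * m + 1) := by
    calc 2 = 2 ^ 1 := rfl
      _ ≤ 2 ^ (2 * m + 1) := Nat.pow_le_pow_right (by norm_num) (by omega)
  have hcard : Nat.card ↥(Lie.twistedF4 K (2 ^ m)) = ord (2 ^ (2 * m + 1)) := Cfsg.Agent.S1068.result hK
  have hF := exists_unit hm hK
  obtain ⟨φ, hφ⟩ := exists_rln hK
  by_cases hp3 : p = 3
  · subst hp3
    exact abIrr_of_nonabelian fun S => not_abelian_three K (by positivity) S
  have h5 : 5 ≤ p := by
    have := hp.out.two_le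
    have h4 : p ≠ 4 := by
      rintro rfl
      exact absurd hp.out (by norm_num)
    omega
  by_cases hd : p ∣ ord (2 ^ (2 * m + 1))
  swap
  · intro S _ B hBS _ _
    left
    have h1 : (S : Subgroup ↥(Lie.twistedF4 K (2 ^ m))) = ⊥ := by
      rw [← card_eq_one, Sylow.card_eq_multiplicity, hcard, Nat.factorization_eq_zero_of_not_dvd hd, pow_zero]
    rw [eq_bot_iff, ← h1]
    exact hBS
  have hpq : ¬ p ∣ 2 ^ (2 * m + 1) := by
    intro h
    exact hp2 ((Nat.prime_dvd_prime_iff_eq hp.out Nat.prime_two).1 (hp.out.dvd_of_dvd_pow h))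
  set S := Cfsg.Agent.KFacts.TwF4.Inst.full hK hφ with hS
  rcases cases_ord hq2 hpq hd with h | h | h | h | h
  · obtain ⟨hidx, -⟩ := Cfsg.Agent.PreUniq.LowExc.TwF4.torus_of_dvd S hp.out hp2 hq (hq2) hcard h
    exact abIrr_minus S hp2 hidx
  · exact abIrr_plus S hF rfl h5 hq hq2 hcard h
  · exact abIrr_sq S hF rfl h5 hq hq2 hcard h
  · exact abIrr_of_cyclic fun Q => cyclic_twF4' hK h5 (Or.inl h) Q.2
  · exact abIrr_of_cyclic fun Q => cyclic_twF4' hK h5 (Or.inr h) Q.2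

/-- **`NormOm p` for `²F₄(q)`, `p` odd.** -/
theorem normOm_tw (hp2 : p ≠ 2) : NormOm p ↥(Lie.twistedF4 K (2 ^ m)) := by
  have hch := Cfsg.Agent.ChevalleyStructure.TwF4.Twisted.charP_two hK
  have hfin := finite_tw (K := K) (2 ^ m)
  have hq : Nat.card K = 2 ^ (2 * m + 1) := by rw [Nat.card_eq_fintype_card, hK]
  have hq2 : 2 ≤ 2 ^ (2 * m + 1) := by
    calc 2 = 2 ^ 1 := rfl
      _ ≤ 2 ^ (2 * m + 1) := Nat.pow_le_pow_right (by norm_num) (by omega)
  have hcard : Nat.card ↥(Lie.twistedF4 K (2 ^ m)) = ord (2 ^ (2 * m + 1)) := Cfsg.Agent.S1068.result hK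
  have hF := exists_unit hm hK
  obtain ⟨φ, hφ⟩ := exists_rln hK
  by_cases hp3 : p = 3
  · subst hp3
    exact normOm_of_nonabelian fun S => not_abelian_three K (by positivity) S
  have h5 : 5 ≤ p := by
    have := hp.out.two_le
    have h4 : p ≠ 4 := by
      rintro rfl
      exact absurd hp.out (by norm_num)
    omega
  by_cases hd : p ∣ ord (2 ^ (2 * m + 1))
  swap
  · intro S _ c _
    have h1 : (S : Subgroup ↥(Lie.twistedF4 K (2 ^ m))) = ⊥ := by
      rw [← card_eq_one, Sylow.card_eq_multiplicity, hcard, Nat.factorization_eq_zero_of_not_dvd hd, pow_zero]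
    rw [h1]
    refine mem_normalizer_of' (fun x hx => ?_) (fun x hx => ?_)
    · rw [mem_bot] at hx ⊢
      rw [hx]; group
    · rw [mem_bot] at hx ⊢
      rw [hx]; group
  have hpq : ¬ p ∣ 2 ^ (2 * m + 1) := by
    intro h
    exact hp2 ((Nat.prime_dvd_prime_iff_eq hp.out Nat.prime_two).1 (hp.out.dvd_of_dvd_pow h))
  set S := Cfsg.Agent.KFacts.TwF4.Inst.full hK hφ with hS
  obtain ⟨Q⟩ : Nonempty (Sylow p ↥(Lie.twistedF4 K (2 ^ m))) := inferInstance
  obtain ⟨y, cc, hcc⟩ := exists_toral (K := K) h5 (2 ^ m) Q.2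
  obtain ⟨ζ, hζ⟩ := exists_root (K := K) h5
  -- the case of rank two
  have htwo : ¬ p ∣ Nat.card K - 1 → ¬ IsCyclic (Q : Subgroup ↥(Lie.twistedF4 K (2 ^ m))) →
      NormOm p ↥(Lie.twistedF4 K (2 ^ m)) := by
    intro hpm hnc
    obtain ⟨x, x', hx, hx1, hx', hind⟩ := exists_pair_of_noncyclic hp2 Q.2 hnc
    have hab := abelian_twF4 (K := K) (m := m) h5 Q.2
    have hPc : ∀ a b : (Q : Subgroup ↥(Lie.twistedF4 K (2 ^ m))), a * b = b * a := fun a b => hab.is_comm.comm a b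
    refine normOm_of_dat h5 Q ⟨y, cc, hcc⟩ fun s hs => ?_
    by_cases h : chi (cc x) s = 1
    · exact ⟨x', hx', (Dat.mk y cc hcc).root_pair hq h5 hpm hPc hx hx1 hx' hind hs h⟩
    · exact ⟨x, hx, h⟩
  -- the case of rank one
  have hone : ∀ n : ℕ, 6 ∣ n → 0 < n → IsPrimitiveRoot ((2 ^ (2 * m + 1) : ℕ) : ZMod p) n →
      NormOm p ↥(Lie.twistedF4 K (2 ^ m)) := by
    intro n h6 hn hprim
    have hpm : ¬ p ∣ Nat.card K - 1 := by
      rw [hq]
      exact sub_one_of_prim (by omega) hprim (by omega)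
    have hne : (Q : Subgroup ↥(Lie.twistedF4 K (2 ^ m))) ≠ ⊥ := Q.ne_bot_of_dvd_card (by rw [hcard]; exact hd)
    have hdQ : p ∣ Nat.card (Q : Subgroup ↥(Lie.twistedF4 K (2 ^ m))) := by
      obtain ⟨k, hk⟩ := (IsPGroup.iff_card).1 Q.2
      rw [hk]
      refine dvd_pow_self p fun h0 => hne ?_
      rw [h0, pow_zero] at hk
      exact card_eq_one.1 hk
    obtain ⟨x, hx⟩ := exists_prime_orderOf_dvd_card' (G := (Q : Subgroup ↥(Lie.twistedF4 K (2 ^ m)))) p hdQ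
    have hxp : x ^ p = 1 := orderOf_dvd_iff_pow_eq_one.1 (dvd_of_eq hx)
    have hx1 : x ≠ 1 := by
      rintro rfl
      rw [orderOf_one] at hx
      exact hp.out.one_lt.ne hx
    refine normOm_of_dat h5 Q ⟨y, cc, hcc⟩ fun s hs => ⟨x, hxp, ?_⟩
    exact (Dat.mk y cc hcc).chi_ne_one hq h5 hζ hpm hprim hn h6 hxp hx1 hs
  -- noncyclic Sylow subgroups
  have hnc : ∀ (j : ℤ) (a : ℕ), Nat.card (S.XZ j) + 1 = a → p ∣ a → ¬ p ∣ Nat.card K - 1 →
      ¬ IsCyclic (Q : Subgroup ↥(Lie.twistedF4 K (2 ^ m))) := by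
    intro j a ha hpa hpm
    have hne : S.XZ j ≠ S.XZ (j + 8) := by
      intro h
      obtain ⟨x, hx, hx1⟩ := S.zsys8.exists_ne j
      exact hx1 (S.X_inf_opp hx (h ▸ hx))
    have h1 := card_succ_dvd S.zsys8 hne
    rw [ha] at h1
    obtain ⟨R, hR, hRc⟩ := not_cyclic_of_pair (S.XZ j ⊔ S.XZ (j + 8)) (S.XZ (j + 4) ⊔ S.XZ (j + 4 + 8))
      (S.rot ^ (2 : ℤ)) (fun l hl m hm => comm_LM S hl hm) (fun l hl => rot_sup S hl)
      (fun P hP hPp => cyc S hF rfl hp2 hpm P hP hPp) (fun K hK h => noquot S rfl hp2 K hK h) (hpa.trans h1)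
    exact not_cyclic_sylow hR hRc Q
  rcases cases_ord hq2 hpq hd with h | h | h | h | h
  · exact normOm_minus hK hφ h5 (by rw [hq]; exact h)
  · have hpm : ¬ p ∣ Nat.card K - 1 := by rw [hq]; exact not_dvd_sub_one_of_plus h5 hq2 h
    refine htwo hpm (hnc 1 _ ?_ h hpm)
    have := card_odd S 0
    rw [show (2 : ℤ) * 0 + 1 = 1 by ring] at this
    rw [this, hq]
  · have hpm : ¬ p ∣ Nat.card K - 1 := by rw [hq]; exact not_dvd_sub_one_of_sq h5 hq2 h
    refine htwo hpm (hnc 0 _ ?_ h hpm)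
    have := card_even S 0
    rw [show (2 : ℤ) * 0 = 0 by ring] at this
    rw [this, hq]
  · exact hone 6 (by norm_num) (by norm_num) (prim_six (two_ne' h5) (three_ne' h5) h)
  · exact hone 12 (by norm_num) (by norm_num) (prim_twelve (two_ne' h5) (three_ne' h5) h)

end

/-- **`AbIrr p` for `²F₄(q)`.** -/
theorem abIrr_twF4 {G : Type*} [Group G] [Finite G] (h : Lie.Iso2F4 G) {p : ℕ} [hp : Fact p.Prime] (hp2 : p ≠ 2) :
    AbIrr p G := by
  obtain ⟨K, _, _, m, hm, hK, ⟨e⟩⟩ := h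
  exact (abIrr_tw hm hK hp2).of_mulEquiv e.symm

theorem normOm_of_mulEquiv {G H : Type*} [Group G] [Group H] {p : ℕ} (e : G ≃* H) (h : NormOm p H) : NormOm p G := by
  intro S hS c hc
  let S0 : Sylow p H := S.comapOfInjective e.symm.toMonoidHom e.symm.injective (by
    rw [MonoidHom.range_eq_top.2 e.symm.surjective]
    exact le_top)
  have hmem : ∀ y : H, y ∈ (S0 : Subgroup H) ↔ e.symm y ∈ (S : Subgroup G) := fun y => Iff.rfl
  have hS0 : IsMulCommutative (S0 : Subgroup H) := isMulCommutative_of fun a ha b hb => by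
    apply e.symm.injective
    rw [map_mul, map_mul]
    exact comm_of hS ((hmem a).1 ha) ((hmem b).1 hb)
  have h1 := h S0 hS0 (e c) (fun y hy hyp => by
    have h2 := hc (e.symm y) ((hmem y).1 hy) (by rw [← map_pow, hyp, map_one])
    apply e.symm.injective
    rw [map_mul, map_mul, map_inv, MulEquiv.symm_apply_apply]
    exact h2)
  rw [Subgroup.mem_normalizer_iff] at h1 ⊢
  intro x
  have h2 := h1 (e x)
  rw [hmem, hmem, map_mul, map_mul, map_inv, MulEquiv.symm_apply_apply, MulEquiv.symm_apply_apply] at h2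
  exact h2

/-- **`NormOm p` for `²F₄(q)`.** -/
theorem normOm_twF4 {G : Type*} [Group G] [Finite G] (h : Lie.Iso2F4 G) {p : ℕ} [hp : Fact p.Prime] (hp2 : p ≠ 2) :
    NormOm p G := by
  obtain ⟨K, _, _, m, hm, hK, ⟨e⟩⟩ := h
  exact normOm_of_mulEquiv e (normOm_tw hm hK hp2)

/-- **The `p`-subgroups of `²F₄(q)` are abelian, `p ≥ 5`.** -/
theorem abelian_of_iso2F4 {G : Type*} [Group G] (h : Lie.Iso2F4 G) {p : ℕ} [hp : Fact p.Prime] (h5 : 5 ≤ p)
    {P : Subgroup G} (hP : IsPGroup p P) : IsMulCommutative P := by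
  obtain ⟨K, _, _, m, hm, hK, ⟨e⟩⟩ := h
  have hch := Cfsg.Agent.ChevalleyStructure.TwF4.Twisted.charP_two hK
  have h1 := abelian_twF4 (K := K) (m := m) h5 (hP.map e.toMonoidHom)
  refine isMulCommutative_of fun a ha b hb => e.injective ?_
  rw [map_mul, map_mul]
  exact comm_of h1 (Subgroup.mem_map_of_mem _ ha) (Subgroup.mem_map_of_mem _ hb)

end Cfsg.Agent.H42.Tw
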